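import Cfsg.Agent.H38.SUBundle.Ext.Transv

/-!
All isotropic vectors of the trace form are centres.
-/

set_option autoImplicit false
set_option linter.unusedSectionVars false

namespace H38.SUBundle.Ext

open Matrix Cfsg H50

variable {F E : Type*} [Field F] [Fintype F] [Field E] [Fintype E] [Algebra F E] {q : ℕ}

local notation "W2" => (Fin 2 → E)
local notation "φ" => hermForm 2 E (q ^ 5)
local notation "al" => algebraMap F E

variable {τ : E →ₗ[F] F} {Mf : ((Fin 2 → E) →ₗ[F] (Fin 2 → E)) → Prop} (d : XS q τ Mf)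
include d

/-- A map sending isotropic lines into lines respects the extension. -/
theorem XS.semilinear_of_lines {g : W2 →ₗ[F] W2} (hg : Mf g)
    (h : ∀ v : W2, v ≠ 0 → φ v v = 0 → ∃ v' : W2, ∀ c : E, ∃ e : E, g (c • v) = e • v') :
    ∀ c : E, ∃ e : E, ∀ x, g (c • x) = e • g x := by
  have hE := d.cardE
  have hF := d.cardF
  obtain ⟨g', -, hgg, hgg'⟩ := d.inv hg
  have e₁ : ∀ x, g' (g x) = x := fun x => LinearMap.congr_fun hgg x
  have e₂ : ∀ x, g (g' x) = x := fun x => LinearMap.congr_fun hgg' x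
  have ginj : Function.Injective g := fun a b e => by rw [← e₁ a, e, e₁]
  have line : ∀ v : W2, v ≠ 0 → φ v v = 0 → ∀ c : E, ∃ e : E, g (c • v) = e • g v := by
    intro v hv0 hv
    obtain ⟨v', hv'⟩ := h v hv0 hv
    obtain ⟨e₀, he₀⟩ := hv' 1
    rw [one_smul] at he₀
    have he₀0 : e₀ ≠ 0 := fun e => hv0 (ginj (by rw [he₀, e, zero_smul, map_zero]))
    intro c
    obtain ⟨e, he⟩ := hv' c
    exact ⟨e / e₀, by rw [he, he₀, smul_smul, div_mul_cancel₀ _ he₀0]⟩
  obtain ⟨v, w, hvw⟩ := exists_hyp hE (n := 2) le_rfl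
  have hv0 : v ≠ 0 := IsHyp.fst_ne_zero hE hvw
  have hw0 : w ≠ 0 := IsHyp.fst_ne_zero hE (IsHyp.symm hE hvw)
  choose α hα using line v hv0 hvw.1
  choose β hβ using line w hw0 hvw.2.1
  have hgv0 : g v ≠ 0 := fun e => hv0 (ginj (by rw [e, map_zero]))
  have hli : LinearIndependent E ![g v, g w] := by
    rw [LinearIndependent.pair_iff' hgv0]
    intro e he
    haveI := d.finite
    have hall : ∀ y, ∃ a : E, g y = a • g v := fun y => by
      refine ⟨α (φ y w) + β (φ y v) * e, ?_⟩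
      conv_lhs => rw [d.decomp hvw y]
      rw [map_add, hα, hβ, ← he, smul_smul, add_smul]
    choose A hA using hall
    have hAinj : Function.Injective A := fun a b hab => ginj ((hA a).trans ((by rw [hab] : A a • g v = A b • g v).trans (hA b).symm))
    have := Fintype.card_le_of_injective A hAinj
    rw [Fintype.card_fun, Fintype.card_fin] at this
    have h2 : 2 ≤ Fintype.card E := Fintype.one_lt_card
    nlinarith
  have coord : ∀ a b : E, a • g v + b • g w = 0 → a = 0 ∧ b = 0 := fun a b hab =>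
    LinearIndependent.pair_iff.1 hli a b hab
  have key : ∀ k : E, k + k ^ q ^ 5 = 0 → ∀ c, α (c * k) = β c * α k := by
    intro k hk c
    have hz : φ (k • v + w) (k • v + w) = 0 := by
      rw [h_add_left, h_add_right hE, h_add_right hE, h_smul_left, h_smul_right hE, h_smul_left, h_smul_right hE,
        hvw.1, hvw.2.1, h_symm hE v w, hvw.2.2]
      linear_combination hk
    have hz0 : k • v + w ≠ 0 := fun e => one_ne_zero (α := E) (by
      have := congrArg (fun y => φ v y) e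
      simpa [h_add_right hE, h_smul_right hE, h_zero_right hE, hvw.1, hvw.2.2] using this)
    obtain ⟨γ, hγ⟩ := line _ hz0 hz c
    rw [smul_add, smul_smul, map_add, hα, hβ, map_add, hα, smul_add, smul_smul] at hγ
    obtain ⟨h1, h2⟩ := coord (α (c * k) - γ * α k) (β c - γ) (by linear_combination (norm := module) hγ)
    rw [sub_eq_zero] at h1 h2
    rw [h1, h2]
  obtain ⟨ε, hε0, hε⟩ := exists_trace_zero_ne_zero hF
  have hαF : ∀ (t : F) (c : E), α (t • c) = t • α c := fun t c => smul_left_injective E hgv0 (by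
    show α (t • c) • g v = (t • α c) • g v
    rw [← hα, smul_assoc, map_smul, hα, smul_assoc])
  have hαadd : ∀ a b : E, α (a + b) = α a + α b := fun a b => smul_left_injective E hgv0 (by
    show α (a + b) • g v = (α a + α b) • g v
    rw [← hα, add_smul, map_add, hα, hα, add_smul])
  have hα1 : α 1 = 1 := smul_left_injective E hgv0 (by
    show α 1 • g v = (1 : E) • g v
    rw [← hα, one_smul, one_smul])
  have hab : ∀ c, α c = β c := fun c => by
    have h1 := key (ε • 1) (by rw [Algebra.smul_def, mul_one, d.alg_conj, ← map_add, hε, map_zero]) c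
    rw [mul_smul_comm, mul_one, hαF, hαF, hα1, mul_smul_comm, mul_one] at h1
    exact smul_right_injective E hε0 h1
  have hmul : ∀ c e, α (c * e) = α c * α e := fun c e => by
    obtain ⟨a, b, k, l, hk, hl, rfl, -⟩ := d.skew_span e
    rw [mul_add, mul_smul_comm, mul_smul_comm, hαadd, hαadd, hαF, hαF, hαF, hαF, key k hk, key l hl, ← hab]
    simp only [mul_add, mul_smul_comm]
  intro c
  refine ⟨α c, fun x => ?_⟩
  conv_lhs => rw [d.decomp hvw x]
  conv_rhs => rw [d.decomp hvw x]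
  rw [smul_add, smul_smul, smul_smul, map_add, map_add, hα, hβ, hα, hβ, ← hab, ← hab, hmul, hmul,
    smul_add, smul_smul, smul_smul]

/-- Isometries move vectors of equal non-zero norm. -/
theorem XS.ctr_move {x y : W2} (hx0 : φ x x ≠ 0) (h : φ x x = φ y y) (hx : Ctr q τ Mf x) : Ctr q τ Mf y := by
  obtain ⟨g, hg⟩ := exists_SU_of_sameGram d.cardE (H41.UDec.gramND_vec d.cardE hx0) (b' := fun _ => y)
    (fun _ _ => h) (by simp)
  have := d.ctr_mv (d.lin g) hx
  have e : suMat g *ᵥ x = y := hg ()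
  rwa [LinearMap.restrictScalars_apply, Matrix.toLin'_apply, e] at this

/-- Combinations of two non-orthogonal centres. -/
theorem XS.ctr_span {x y : W2} (hx : Ctr q τ Mf x) (hy : Ctr q τ Mf y) (hxy : τ (φ x y) ≠ 0) (a b : F)
    (h : τ (φ (a • x + b • y) (a • x + b • y)) = 0) : Ctr q τ Mf (a • x + b • y) := by
  have hF := d.cardF
  by_cases hb : b = 0
  · rw [hb, zero_smul, add_zero]; exact d.ctr_smul hx a
  set g := τ (φ y x) with hgdef
  have hg : τ (φ x y) = g ^ q := by rw [hgdef, ← d.tau_conj, ← h_symm d.cardE]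
  have hg0 : g ≠ 0 := fun e => hxy (by rw [hg, e, zero_pow (q_ne_zero hF)])
  have h' : (a / b) * g ^ q + (a / b) ^ q * g = 0 := by
    have e : a * b ^ q * g ^ q + b * a ^ q * g = 0 := by
      have h1 := h
      simp only [h_add_left, h_add_right d.cardE, d.hh_smul_left, d.hh_smul_right, map_add, d.tau_mul,
        hx.1, hy.1, ← hgdef, hg] at h1
      linear_combination h1
    rw [div_pow, div_mul_eq_mul_div, div_mul_eq_mul_div, div_add_div _ _ hb (pow_ne_zero _ hb), div_eq_zero_iff]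
    left
    linear_combination e
  have hc : a / b / g + (a / b / g) ^ q = 0 := by
    rw [div_pow (a / b) g, div_add_div _ _ hg0 (pow_ne_zero _ hg0), div_eq_zero_iff]
    left
    linear_combination h'
  have hs := d.ctr_smul (d.ctr_step hx hy hc) b
  rw [← hgdef, div_mul_cancel₀ _ hg0, smul_add, smul_smul, mul_div_cancel₀ _ hb, add_comm] at hs
  exact hs

/-- A norm-one scalar that is real up to no ground scalar. -/
theorem XS.exists_twist : ∃ t : E, Algebra.norm F t = 1 ∧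
    ∀ σ : F, σ ≠ 0 → (al σ * t) ^ q ^ 5 ≠ al σ * t := by
  haveI := d.finite
  obtain ⟨y, hy⟩ := IsCyclic.exists_ofOrder_eq_natCard (α := Eˣ)
  rw [Nat.card_units, Nat.card_eq_fintype_card, d.cardE] at hy
  have hq := two_le d.cardF
  refine ⟨(y : E) ^ (q ^ 2 - 1), ?_, fun σ hσ hreal => ?_⟩
  · rw [map_pow, ← d.cardF]
    exact FiniteField.pow_card_sub_one_eq_one _ (by
      rw [Ne, Algebra.norm_eq_zero_iff]; exact y.ne_zero)
  obtain ⟨m, rfl⟩ : ∃ m, q = m + 1 := ⟨q - 1, by omega⟩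
  set x := al σ * (y : E) ^ ((m + 1) ^ 2 - 1) with hx
  have hx0 : x ≠ 0 := mul_ne_zero (by rwa [Ne, map_eq_zero]) (pow_ne_zero _ y.ne_zero)
  have hx1 : x ^ ((m + 1) ^ 5 - 1) = 1 := by
    refine mul_right_cancel₀ hx0 ?_
    rw [← pow_succ, Nat.sub_add_cancel (Nat.one_le_pow _ _ (by omega)), hreal, one_mul]
  have hnum : ((m + 1) ^ 5 - 1) * (m + 2) =
      ((m + 1) ^ 2 - 1) * ((m + 1) ^ 4 + (m + 1) ^ 3 + (m + 1) ^ 2 + (m + 1) + 1) := by
    have e5 : (m + 1) ^ 5 - 1 = m * ((m + 1) ^ 4 + (m + 1) ^ 3 + (m + 1) ^ 2 + (m + 1) + 1) :=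
      Nat.sub_eq_of_eq_add (by ring)
    have e2 : (m + 1) ^ 2 - 1 = m * (m + 2) := Nat.sub_eq_of_eq_add (by ring)
    rw [e5, e2]; ring
  have h2 := congrArg (· ^ (m + 2)) hx1
  simp only [one_pow] at h2
  rw [← pow_mul, hx, mul_pow, ← map_pow, hnum, pow_mul σ, show σ ^ ((m + 1) ^ 2 - 1) = 1 by
    rw [← d.cardF]; exact FiniteField.pow_card_sub_one_eq_one σ hσ, one_pow, map_one, one_mul, ← pow_mul] at h2
  have h3 : y ^ (((m + 1) ^ 2 - 1) * (((m + 1) ^ 2 - 1) *
      ((m + 1) ^ 4 + (m + 1) ^ 3 + (m + 1) ^ 2 + (m + 1) + 1))) = 1 :=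
    Units.ext (by rw [Units.val_pow_eq_pow_val]; exact h2)
  have h4 := orderOf_dvd_of_pow_eq_one h3
  rw [hy] at h4
  have e2 : (m + 1) ^ 2 - 1 = m * (m + 2) := Nat.sub_eq_of_eq_add (by ring)
  have hpos : 0 < ((m + 1) ^ 2 - 1) * (((m + 1) ^ 2 - 1) *
      ((m + 1) ^ 4 + (m + 1) ^ 3 + (m + 1) ^ 2 + (m + 1) + 1)) := by
    rw [e2]
    have hm : 0 < m := by omega
    exact Nat.mul_pos (Nat.mul_pos hm (by omega)) (Nat.mul_pos (Nat.mul_pos hm (by omega)) (by omega))
  have h5 := Nat.le_of_dvd hpos h4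
  have h6 : ((m + 1) ^ 2 - 1) * (((m + 1) ^ 2 - 1) *
      ((m + 1) ^ 4 + (m + 1) ^ 3 + (m + 1) ^ 2 + (m + 1) + 1)) + 1 < ((m + 1) ^ 5) ^ 2 := by
    set Q := m + 1 with hQ
    have hb : (Q ^ 2 - 1) * ((Q ^ 2 - 1) * (Q ^ 4 + Q ^ 3 + Q ^ 2 + Q + 1)) ≤
        Q ^ 2 * (Q ^ 2 * (Q ^ 4 + Q ^ 3 + Q ^ 2 + Q + 1)) :=
      Nat.mul_le_mul (Nat.sub_le _ _) (Nat.mul_le_mul_right _ (Nat.sub_le _ _))
    have e : (Q ^ 5) ^ 2 = Q ^ 2 * (Q ^ 2 * (Q ^ 6)) := by ring
    have : Q ^ 4 + Q ^ 3 + Q ^ 2 + Q + 1 + 1 ≤ Q ^ 6 := by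
      have st : ∀ k, 2 * Q ^ k ≤ Q ^ (k + 1) := fun k => by
        rw [pow_succ']; exact Nat.mul_le_mul_right _ hq
      have s1 : 2 * Q ≤ Q ^ 2 := by simpa using st 1
      have s2 : 2 * Q ^ 2 ≤ Q ^ 3 := st 2
      have s3 : 2 * Q ^ 3 ≤ Q ^ 4 := st 3
      have s4 : 2 * Q ^ 4 ≤ Q ^ 5 := st 4
      have s5 : 2 * Q ^ 5 ≤ Q ^ 6 := st 5
      omega
    have h7 := Nat.mul_le_mul_left (Q ^ 2) (Nat.mul_le_mul_left (Q ^ 2) this)
    have h8 : 4 ≤ Q ^ 2 := by nlinarith
    have h9 := Nat.mul_le_mul h8 h8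
    rw [mul_add, mul_add, mul_one] at h7
    rw [e]
    omega
  omega

/-- All isotropic vectors for the trace form are centres. -/
theorem XS.ctr_all {g : W2 →ₗ[F] W2} (hg : Mf g) (hne : ¬ ∀ c : E, ∃ e : E, ∀ x, g (c • x) = e • g x) :
    ∀ x, τ (φ x x) = 0 → Ctr q τ Mf x := by
  classical
  have hE := d.cardE
  have hF := d.cardF
  obtain ⟨v₀, hv₀0, hv₀, hline⟩ : ∃ v : W2, v ≠ 0 ∧ φ v v = 0 ∧ ¬ ∃ v' : W2, ∀ c : E, ∃ e : E, g (c • v) = e • v' := by
    by_contra hcon
    exact hne (d.semilinear_of_lines hg fun v h0 h => by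
      by_contra hc
      exact hcon ⟨v, h0, h, hc⟩)
  obtain ⟨g₁, u, v, hg₁, hu0, hu, hv0, hv, h4⟩ := d.exists_four hg hv₀0 hv₀ hline
  obtain ⟨n, hn0, hn, hctr⟩ := d.exists_ctr hg₁ hu0 hu hv0 hv h4
  obtain ⟨m, hnm⟩ := exists_hyp_partner hE hn0 hn
  obtain ⟨ε, hε0, hε⟩ := exists_trace_zero_ne_zero hF
  -- a centre of non-zero norm
  obtain ⟨w₁, hw₁, hw₁n⟩ : ∃ w, Ctr q τ Mf w ∧ φ w w ≠ 0 := by
    obtain ⟨t, ht1, ht⟩ := d.exists_twist
    obtain ⟨T, hT, hTx⟩ := d.tor hnm ht1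
    have c1 : Ctr q τ Mf (t • n) := by
      have := d.ctr_mv hT hctr
      rwa [hTx, hnm.2.2, hnm.1, mul_one, mul_zero, zero_smul, add_zero] at this
    have ht0 : t ≠ 0 := fun e => by
      have := ht ε hε0
      rw [e, mul_zero, zero_pow (q_ne_zero hE)] at this
      exact this rfl
    obtain ⟨k, hk, hk'⟩ : ∃ k : E, k + k ^ q ^ 5 = 0 ∧ τ (k * t) ≠ 0 := by
      by_contra hcon
      simp only [not_exists, not_and, not_not] at hcon
      exact ht0 (d.skew_ext hcon)
    obtain ⟨S, hS, hSx⟩ := d.etv hnm.2.1 hk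
    have c2 : Ctr q τ Mf (n + k • m) := by
      have := d.ctr_mv hS hctr
      rwa [hSx, hnm.2.2, mul_one] at this
    have hp : φ (n + k • m) (t • n) = k * t ^ q ^ 5 := by
      rw [h_add_left, h_smul_left, h_smul_right hE, h_smul_right hE, hnm.1, h_symm hE n m, hnm.2.2, one_pow]
      ring
    set σ := ε * τ (φ (n + k • m) (t • n)) with hσ
    have hkq := eq_neg_of_add_eq_zero_right hk
    have hτ0 : τ (k * t ^ q ^ 5) ≠ 0 := fun e => hk' (by
      have h1 := congrArg (· ^ q) e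
      simp only [← d.tau_conj, mul_pow, hkq, pow_q_pow_q hE, neg_mul, map_neg, zero_pow (q_ne_zero hF),
        neg_eq_zero] at h1
      exact h1)
    have hσ0 : σ ≠ 0 := by rw [hσ, hp]; exact mul_ne_zero hε0 hτ0
    clear_value σ
    refine ⟨_, d.ctr_step c1 c2 hε, ?_⟩
    have hn' : φ (n + k • m) (n + k • m) = 0 := by
      rw [h_add_left, h_add_right hE, h_add_right hE, h_smul_left, h_smul_left, h_smul_right hE,
        h_smul_right hE, hnm.1, hnm.2.1, hnm.2.2, h_symm hE n m, hnm.2.2]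
      linear_combination hk
    have hn'' : φ (t • n) (t • n) = 0 := by rw [h_smul_left, h_smul_right hE, hnm.1, mul_zero, mul_zero]
    rw [← hσ, h_add_left (n + k • m), h_add_right hE (n + k • m) (n + k • m), h_add_right hE (σ • t • n) (n + k • m), hn', d.hh_smul_left, d.hh_smul_left,
      d.hh_smul_right, d.hh_smul_right, h_symm hE (n + k • m) (t • n), hp, hn'', mul_pow, pow_q_pow_q hE, hkq]
    intro h0
    refine ht σ hσ0 ?_
    have hk0 : k ≠ 0 := fun e => hk' (by rw [e, zero_mul, map_zero])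
    rw [mul_pow, d.alg_conj]
    exact mul_left_cancel₀ hk0 (by linear_combination h0)
  -- every isotropic line
  set ν := φ w₁ w₁ with hν
  have hνr : ν ^ q ^ 5 = ν := h_self_fixed hE w₁
  have hiso : ∀ z : W2, φ z z = 0 → Ctr q τ Mf z := by
    intro z hz
    rcases eq_or_ne z 0 with rfl | hz0
    · exact d.ctr_zero
    obtain ⟨p, hzp⟩ := exists_hyp_partner hE hz0 hz
    obtain ⟨k, hk, hk'⟩ : ∃ k : E, k + k ^ q ^ 5 = 0 ∧ τ k ≠ 0 := by
      by_contra hcon
      simp only [not_exists, not_and, not_not] at hcon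
      exact one_ne_zero (d.skew_ext (z := 1) fun k hk => by rw [mul_one]; exact hcon k hk)
    have hkq := eq_neg_of_add_eq_zero_right hk
    have hk0 : k ≠ 0 := fun e => hk' (by rw [e, map_zero])
    obtain ⟨s, hs⟩ := exists_trace_eq hE hνr
    set a := s / (-k) with ha
    have hak : a * -k = s := div_mul_cancel₀ _ (neg_ne_zero.2 hk0)
    have hnorm : ∀ a' : E, φ (a' • z + k • p) (a' • z + k • p) = a' * -k + (a' * -k) ^ q ^ 5 := fun a' => by
      simp only [h_add_left, h_add_right hE, h_smul_left, h_smul_right hE, hzp.1, hzp.2.1, hzp.2.2,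
        h_symm hE z p, one_pow, mul_pow, hkq, neg_pow_q hE]
      ring
    have h1 : φ (a • z + k • p) (a • z + k • p) = ν := by rw [hnorm, hak, hs]
    have h2 : φ ((a + 1) • z + k • p) ((a + 1) • z + k • p) = ν := by
      rw [hnorm, show (a + 1) * -k = s + -k by rw [← hak]; ring, add_pow_q hE, neg_pow_q hE, hkq]
      linear_combination hs
    have c1 := d.ctr_move hw₁n h1.symm hw₁
    have c2 := d.ctr_move hw₁n h2.symm hw₁
    have e : z = (1 : F) • ((a + 1) • z + k • p) + (-1 : F) • (a • z + k • p) := by module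
    have hτν : τ ν = 0 := hw₁.1
    rw [e]
    refine d.ctr_span c2 c1 ?_ 1 (-1) (by rw [← e, hz, map_zero])
    rw [show φ ((a + 1) • z + k • p) (a • z + k • p) = ν + -k by
      rw [add_smul, one_smul, show a • z + z + k • p = (a • z + k • p) + z by abel, h_add_left, h1,
        h_add_right hE, h_smul_right hE, h_smul_right hE, hzp.1, hzp.2.2, hkq]
      ring, map_add, hτν, zero_add, map_neg, neg_ne_zero]
    exact hk'
  -- all norms
  intro x hx
  by_cases hxx : φ x x = 0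
  · exact hiso x hxx
  obtain ⟨z, p, hzp⟩ := exists_hyp hE (n := 2) le_rfl
  set μ := φ x x with hμ
  obtain ⟨a, ha, ha'⟩ : ∃ a : E, a + a ^ q ^ 5 = μ ∧ τ a ≠ 0 := by
    obtain ⟨a₀, ha₀⟩ := exists_trace_eq hE (c := μ) (h_self_fixed hE x)
    by_cases h0 : τ a₀ = 0
    · obtain ⟨f, hf, hf1⟩ := d.exists_fixed_one
      refine ⟨a₀ + al ε * f, ?_, ?_⟩
      · rw [add_pow_q hE, mul_pow, d.alg_conj, hf, eq_neg_of_add_eq_zero_right hε, map_neg]
        linear_combination ha₀
      · rw [map_add, h0, d.tau_mul, hf1, zero_add, mul_one]; exact hε0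
    · exact ⟨a₀, ha₀, h0⟩
  have hw : φ (a • z + p) (a • z + p) = μ := by
    rw [h_add_left, h_add_right hE, h_add_right hE, h_smul_left, h_smul_left, h_smul_right hE,
      h_smul_right hE, hzp.1, hzp.2.1, hzp.2.2, h_symm hE z p, hzp.2.2]
    linear_combination ha
  have c : Ctr q τ Mf (a • z + p) := by
    have := d.ctr_span (x := a • z) (y := p) (hiso _ (by rw [h_smul_left, h_smul_right hE, hzp.1]; simp))
      (hiso _ hzp.2.1) (by rw [h_smul_left, hzp.2.2, mul_one]; exact ha') 1 1 (by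
        rw [one_smul, one_smul, hw]; exact hx)
    rwa [one_smul, one_smul] at this
  exact d.ctr_move (by rw [hw]; exact hxx) hw c

end H38.SUBundle.Ext
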