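import Cfsg.Agent.H38.SUBundle.Ext.All
import Cfsg.Agent.H41.UDec.Centres
import Cfsg.Agent.H41.UTen.KSet

/-! The normaliser of a degree five extension field is maximal in `SU₁₀`. -/

set_option autoImplicit false
set_option linter.unusedSectionVars false
set_option linter.unusedSimpArgs false

namespace H38.SUBundle.Ext

open Matrix Cfsg Cfsg.Geo H50 H45 H41

theorem dual_trace {F E : Type*} [Field F] [Field E] [Algebra F E] [FiniteDimensional F E]
    {τ : E →ₗ[F] F} (hτ : τ ≠ 0) :
    (∀ {a b : E}, (∀ c, τ (c * a) = τ (c * b)) → a = b) ∧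
      ∀ f : E →ₗ[F] F, ∃ a : E, ∀ c, τ (c * a) = f c := by
  have ext : ∀ {a b : E}, (∀ c, τ (c * a) = τ (c * b)) → a = b := by
    intro a b h
    by_contra hne
    refine hτ (LinearMap.ext fun e => ?_)
    have h1 := h (e / (a - b))
    rw [LinearMap.zero_apply, ← div_mul_cancel₀ e (sub_ne_zero.2 hne), mul_sub, map_sub, h1, sub_self]
  refine ⟨ext, fun f => ?_⟩
  let T : E →ₗ[F] Module.Dual F E := (LinearMap.mul F E).compr₂ τ
  have hT : Function.Injective T := fun a b e => ext fun c => by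
    rw [mul_comm c a, mul_comm c b]; exact LinearMap.congr_fun e c
  obtain ⟨a, ha⟩ := (LinearMap.injective_iff_surjective_of_finrank_eq_finrank
    Subspace.dual_finrank_eq.symm).1 hT f
  exact ⟨a, fun c => by rw [mul_comm]; exact LinearMap.congr_fun ha c⟩

/-- An involution extending the conjugation is a power map. -/
theorem eq_pow_five {F E : Type*} [Field F] [Fintype F] [Field E] [Fintype E] [Algebra F E] {q : ℕ}
    (hF : Fintype.card F = q ^ 2) (hE : Fintype.card E = (q ^ 5) ^ 2) (hr : Module.finrank F E = 5)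
    (σ : E →+* E) (hσσ : ∀ x, σ (σ x) = x) (hσ : ∀ t : F, σ (algebraMap F E t) = algebraMap F E (t ^ q)) (x : E) :
    σ x = x ^ q ^ 5 := by
  haveI : FiniteDimensional F E := Module.finite_of_finrank_eq_succ hr
  have hfix : ∀ t : F, t ^ q ^ 6 = t := fun t => by
    rw [show q ^ 6 = q ^ 2 * (q ^ 2 * q ^ 2) by ring, pow_mul, ← hF, FiniteField.pow_card, hF, pow_mul, ← hF, FiniteField.pow_card, FiniteField.pow_card]
  let ψ : E →ₐ[F] E :=
    { toRingHom := σ.comp (conjHom hE)
      commutes' := fun t => by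
        show σ (algebraMap F E t ^ q ^ 5) = algebraMap F E t
        rw [← map_pow, hσ, ← pow_mul, ← pow_succ]
        exact congrArg _ (hfix t) }
  have hψ : ∀ y, ψ y = σ (y ^ q ^ 5) := fun y => rfl
  let e : E ≃ₐ[F] E := AlgEquiv.ofBijective ψ (Finite.injective_iff_bijective.1 ψ.toRingHom.injective)
  have he : ∀ y, e y = σ (y ^ q ^ 5) := fun y => rfl
  have h2 : e ^ 2 = 1 := AlgEquiv.ext fun y => by
    rw [pow_two, AlgEquiv.mul_apply, he, he, ← map_pow σ, hσσ, pow_q_pow_q hE, AlgEquiv.one_apply]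
  have h3 : e ^ 5 = 1 := by
    haveI : IsGalois F E := inferInstance
    have := IsGalois.card_aut_eq_finrank F E
    rw [hr] at this
    rw [← this]
    exact pow_card_eq_one'
  have h1 : e = 1 := by
    rw [show (5 : ℕ) = 2 + 2 + 1 by norm_num, pow_add, pow_add, h2, one_mul, one_mul, pow_one] at h3; exact h3
  have := he x
  rw [h1, AlgEquiv.one_apply] at this
  calc σ x = σ (σ (x ^ q ^ 5)) := by rw [← this]
    _ = x ^ q ^ 5 := hσσ _

/-- The torus element of a hyperbolic pair has determinant one over the ground field. -/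
theorem exists_torus {F E : Type*} [Field F] [Field E] [Fintype E] [Algebra F E] [FiniteDimensional F E] {q : ℕ}
    (hE : Fintype.card E = (q ^ 5) ^ 2) {v w : Fin 2 → E} (hvw : IsHyp (q ^ 5) v w)
    (hdec : ∀ x, x = hermForm 2 E (q ^ 5) x w • v + hermForm 2 E (q ^ 5) x v • w)
    {t : E} (ht : Algebra.norm F t = 1) :
    ∃ T : (Fin 2 → E) →ₗ[E] (Fin 2 → E), LinearMap.det (T.restrictScalars F) = 1 ∧
      (∀ x y, hermForm 2 E (q ^ 5) (T x) (T y) = hermForm 2 E (q ^ 5) x y) ∧
      ∀ x, T x = (t * hermForm 2 E (q ^ 5) x w) • v + ((t ^ q ^ 5)⁻¹ * hermForm 2 E (q ^ 5) x v) • w := by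
  set s := (t ^ q ^ 5)⁻¹ with hs
  have ht0 : t ≠ 0 := fun e => by rw [e, Algebra.norm_zero] at ht; exact zero_ne_one ht
  have hts : t * s ^ q ^ 5 = 1 := by rw [hs, inv_pow, pow_q_pow_q hE, mul_inv_cancel₀ ht0]
  have hts' : s * t ^ q ^ 5 = 1 := by rw [hs, inv_mul_cancel₀ (pow_ne_zero _ ht0)]
  obtain ⟨hvv, hww, hvw'⟩ := hvw
  have hwv : hermForm 2 E (q ^ 5) w v = 1 := by rw [h_symm hE v w, hvw', one_pow]
  let T : (Fin 2 → E) →ₗ[E] (Fin 2 → E) :=
    (t • H50.hLeft 2 (q ^ 5) w).smulRight v + (s • H50.hLeft 2 (q ^ 5) v).smulRight w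
  have hT : ∀ x, T x = (t * hermForm 2 E (q ^ 5) x w) • v + (s * hermForm 2 E (q ^ 5) x v) • w := fun x => rfl
  refine ⟨T, ?_, fun x y => ?_, hT⟩
  · let e : (Fin 2 → E) ≃ₗ[F] E × E :=
      { toFun := fun x => (hermForm 2 E (q ^ 5) x w, hermForm 2 E (q ^ 5) x v)
        map_add' := fun a b => by simp [h_add_left]
        map_smul' := fun a x => by
          rw [← algebraMap_smul E a x, h_smul_left, h_smul_left]
          exact Prod.ext (Algebra.smul_def _ _).symm (Algebra.smul_def _ _).symm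
        invFun := fun p => p.1 • v + p.2 • w
        left_inv := fun x => (hdec x).symm
        right_inv := fun p => by
          simp [h_add_left, h_smul_left, hvv, hww, hvw', hwv] }
    rw [← LinearMap.det_conj (T.restrictScalars F) e,
      show (e : (Fin 2 → E) →ₗ[F] E × E) ∘ₗ T.restrictScalars F ∘ₗ (e.symm : E × E →ₗ[F] (Fin 2 → E)) =
        LinearMap.prodMap (Algebra.lmul F E t) (Algebra.lmul F E s) from LinearMap.ext fun p => by
        show (hermForm 2 E (q ^ 5) (T (p.1 • v + p.2 • w)) w, hermForm 2 E (q ^ 5) (T (p.1 • v + p.2 • w)) v) =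
          (t * p.1, s * p.2)
        simp [hT, h_add_left, h_smul_left, hvv, hww, hvw', hwv],
      LinearMap.det_prodMap, ← Algebra.norm_apply, ← Algebra.norm_apply, ht, one_mul]
    have h := congrArg (Algebra.norm F) hts'
    rw [map_mul, map_pow, ht, one_pow, mul_one, map_one] at h
    exact h
  · conv_rhs => rw [hdec x, hdec y]
    simp only [hT, h_add_left, h_add_right hE, h_smul_left, h_smul_right hE, hvv, hww, hvw', hwv, mul_pow]
    linear_combination (hermForm 2 E (q ^ 5) x w * hermForm 2 E (q ^ 5) y v ^ q ^ 5) * hts +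
      (hermForm 2 E (q ^ 5) x v * hermForm 2 E (q ^ 5) y w ^ q ^ 5) * hts'

variable {F : Type*} [Field F] [Fintype F] {n q : ℕ}

set_option maxHeartbeats 2000000 in
theorem isMaximalIn_ext (hF : Fintype.card F = q ^ 2) (K : Subalgebra F (Matrix (Fin 10) (Fin 10) F))
    (hK : IsFieldSubalgebra 5 K) (hac : IsAdjointClosedFor (hermForm 10 F q) K) :
    IsMaximalIn (UDec.SUGL 10 F q) (subalgebraNormalizer K ⊓ UDec.SUGL 10 F q) := by
  classical
  have hKF : IsField K := by
    refine ⟨⟨0, 1, zero_ne_one⟩, fun a b => Subtype.ext (hK.comm _ a.2 _ b.2), fun {a} ha => ?_⟩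
    obtain ⟨y, hy, hxy⟩ := hK.inv _ a.2 fun e => ha (Subtype.ext e)
    exact ⟨⟨y, hy⟩, Subtype.ext hxy⟩
  letI : Field K := hKF.toField
  haveI : Fintype K := Fintype.ofFinite _
  haveI : FiniteDimensional F K := Module.Finite.of_finite
  have hsmul : ∀ (c : K) (x : Fin 10 → F), c • x = (c : Matrix (Fin 10) (Fin 10) F) *ᵥ x := fun c x => rfl
  haveI : IsScalarTower F K (Fin 10 → F) := ⟨fun t c x => by
    rw [hsmul, hsmul, K.coe_smul, Matrix.smul_mulVec]⟩
  haveI : Module.Finite K (Fin 10 → F) := Module.Finite.of_finite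
  have hr : Module.finrank F K = 5 := hK.finrank_eq
  have hm : Module.finrank K (Fin 10 → F) = 2 := by
    have := Module.finrank_mul_finrank F K (Fin 10 → F)
    rw [hr, Module.finrank_fin_fun] at this
    omega
  have hE : Fintype.card K = (q ^ 5) ^ 2 := by
    rw [Module.card_eq_pow_finrank (K := F) (V := K), hr, hF]; ring
  -- the adjoint automorphism
  have hext : ∀ {c c' : K}, (∀ u v : Fin 10 → F, hermForm 10 F q u (c • v) = hermForm 10 F q u (c' • v)) → c = c' := fun hcc =>
    Subtype.ext (Matrix.ext_of_mulVec_single fun i => sub_eq_zero.1 (eq_zero_of_h_right hF fun u => by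
      rw [h_sub_right hF, sub_eq_zero]; exact hcc u _))
  choose st hstK hst using hac
  let star : K → K := fun c => ⟨st c.1 c.2, hstK c.1 c.2⟩
  have hstar : ∀ (c : K) u v, hermForm 10 F q (c • u) v = hermForm 10 F q u (star c • v) := fun c u v => hst c.1 c.2 u v
  let σ : K →+* K :=
    { toFun := star
      map_one' := hext fun u v => by rw [← hstar, one_smul, one_smul]
      map_mul' := fun a b => hext fun u v => by
        rw [← hstar, mul_comm a b, mul_smul b a u, hstar, hstar, ← mul_smul]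
      map_zero' := hext fun u v => by rw [← hstar, zero_smul, h_zero_left, zero_smul, h_zero_right hF]
      map_add' := fun a b => hext fun u v => by
        rw [← hstar, add_smul, h_add_left, hstar, hstar, ← h_add_right hF, ← add_smul] }
  have hσ : ∀ (c : K) u v, hermForm 10 F q (c • u) v = hermForm 10 F q u (σ c • v) := hstar
  have hσσ : ∀ c, σ (σ c) = c := fun c => hext fun u v => by
    rw [← hσ, h_symm hF v (σ c • u), ← hσ, ← h_symm hF]
  have hσa : ∀ t : F, σ (algebraMap F K t) = algebraMap F K (t ^ q) := fun t => hext fun u v => by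
    rw [← hσ, algebraMap_smul, algebraMap_smul, h_smul_left, h_smul_right hF, pow_q_pow_q hF]
  have hconj : ∀ c : K, σ c = c ^ q ^ 5 := eq_pow_five hF hE hr σ hσσ hσa
  -- the trace
  set τ : K →ₗ[F] F := Algebra.trace F K with hτdef
  have htr : ∀ x : K, algebraMap F K (τ x) = x + x ^ q ^ 2 + x ^ q ^ 4 + x ^ q ^ 6 + x ^ q ^ 8 := fun x => by
    rw [hτdef, FiniteField.algebraMap_trace_eq_sum_pow, hr, Nat.card_eq_fintype_card, hF]
    simp [Finset.sum_range_succ, ← pow_mul]
  have hnz : τ ≠ 0 := fun e => by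
    obtain ⟨x, hx⟩ := Algebra.trace_surjective F K 1
    rw [← hτdef, e, LinearMap.zero_apply] at hx
    exact zero_ne_one hx
  obtain ⟨text, tdual⟩ := dual_trace hnz
  have tmul : ∀ (t : F) (x : K), τ (algebraMap F K t * x) = t * τ x := fun t x => by
    rw [← Algebra.smul_def, map_smul, smul_eq_mul]
  have tconj : ∀ x : K, τ (x ^ q ^ 5) = τ x ^ q := by
    intro x
    apply (algebraMap F K).injective
    rw [← hσa (τ x), htr, htr]
    simp only [map_add, map_pow, hconj, add_pow_q hE, ← pow_mul, mul_comm (q ^ 5)]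
  -- the form over the extension
  have key : ∀ x y : Fin 10 → F, ∃ a : K, ∀ c : K, τ (c * a) = hermForm 10 F q (c • x) y := fun x y => tdual
    { toFun := fun c => hermForm 10 F q (c • x) y
      map_add' := fun a b => by rw [add_smul, h_add_left]
      map_smul' := fun t a => by rw [RingHom.id_apply, smul_assoc, h_smul_left, smul_eq_mul] }
  choose Φ hΦ using key
  have Φadd : ∀ x x' y, Φ (x + x') y = Φ x y + Φ x' y := fun x x' y => text fun c => by
    rw [mul_add, map_add, hΦ, hΦ, hΦ, smul_add, h_add_left]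
  have Φsmul : ∀ (a : K) x y, Φ (a • x) y = a * Φ x y := fun a x y => text fun c => by
    rw [hΦ, ← mul_assoc, hΦ, mul_smul]
  have Φsymm : ∀ x y, Φ y x = Φ x y ^ q ^ 5 := fun x y => text fun c => by
    have : c * Φ x y ^ q ^ 5 = (c ^ q ^ 5 * Φ x y) ^ q ^ 5 := by rw [mul_pow, pow_q_pow_q hE]
    rw [hΦ, this, tconj, hΦ, ← hconj, hσ]
    exact h_symm hF _ _
  have Φone : ∀ x y, τ (Φ x y) = hermForm 10 F q x y := fun x y => by
    have := hΦ x y 1
    rwa [one_mul, one_smul] at this
  have Φadd' : ∀ x y y', Φ x (y + y') = Φ x y + Φ x y' := fun x y y' => by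
    rw [Φsymm, Φadd, add_pow_q hE, ← Φsymm, ← Φsymm]
  have Φsmul' : ∀ (a : K) x y, Φ x (a • y) = a ^ q ^ 5 * Φ x y := fun a x y => by
    rw [Φsymm, Φsmul, mul_pow, ← Φsymm]
  have Φzero : ∀ y, Φ 0 y = 0 := fun y => by simpa using Φsmul 0 0 y
  have Φsum : ∀ {ι : Type} (s : Finset ι) (f : ι → Fin 10 → F) y, Φ (∑ i ∈ s, f i) y = ∑ i ∈ s, Φ (f i) y := by
    intro ι s f y
    induction s using Finset.induction with
    | empty => simp [Φzero]
    | insert i s hi ih => rw [Finset.sum_insert hi, Φadd, ih, Finset.sum_insert hi]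
  have Φsum' : ∀ {ι : Type} (s : Finset ι) (f : ι → Fin 10 → F) x, Φ x (∑ i ∈ s, f i) = ∑ i ∈ s, Φ x (f i) := by
    intro ι s f x
    rw [Φsymm, Φsum, sum_pow_q hE]
    exact Finset.sum_congr rfl fun i _ => (Φsymm _ _).symm
  -- orthonormal coordinates
  let B : Module.Basis (Fin 2) K (Fin 10 → F) := Module.finBasisOfFinrankEq K (Fin 10 → F) hm
  set s : Matrix (Fin 2) (Fin 2) K := Matrix.of fun i j => Φ (B j) (B i) with hs
  have hsadj : H51.adj hE s = s := by
    ext i j
    rw [H51.adj_apply, hs, Matrix.of_apply, Matrix.of_apply, ← Φsymm]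
  have hsu : IsUnit s := by
    refine Matrix.mulVec_injective_iff_isUnit.1 fun a b hab => ?_
    rw [← sub_eq_zero]
    set c := a - b with hc
    have hc0 : s *ᵥ c = 0 := by rw [hc, Matrix.mulVec_sub]; exact sub_eq_zero.2 hab
    set x := ∑ j, c j • B j with hx
    have hxB : ∀ i, Φ x (B i) = 0 := fun i => by
      have := congrFun hc0 i
      simp only [Matrix.mulVec, dotProduct, hs, Matrix.of_apply, Pi.zero_apply] at this
      rw [hx, Φsum, ← this]
      exact Finset.sum_congr rfl fun j _ => by rw [Φsmul, mul_comm]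
    have hx0 : x = 0 := eq_zero_of_h_left hF fun y => by
      rw [← Φone, ← B.sum_repr y, Φsum']
      simp [Φsmul', hxB]
    funext j
    exact Fintype.linearIndependent_iff.1 B.linearIndependent c hx0 j
  obtain ⟨C, hC, hCC⟩ := H51.exists_adj_mul_self hE hsadj hsu
  have hcomb : Function.Bijective ((Matrix.toLin' C) ∘ₗ B.equivFun.toLinearMap) :=
    (show Function.Bijective (Matrix.toLin' C) from
      Finite.injective_iff_bijective.1 (Matrix.mulVec_injective_iff_isUnit.2 hC)).comp B.equivFun.bijective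
  let ι : (Fin 10 → F) ≃ₗ[K] (Fin 2 → K) := LinearEquiv.ofBijective _ hcomb
  have hι : ∀ x, ι x = C *ᵥ (fun j => B.repr x j) := fun x => rfl
  have hφι : ∀ x y, hermForm 2 K (q ^ 5) (ι x) (ι y) = Φ x y := by
    intro x y
    conv_rhs => rw [← B.sum_repr x, ← B.sum_repr y]
    rw [Φsum, hι, hι, UTen.h_mulVec_right hE, Matrix.mulVec_mulVec, hCC]
    simp only [hermForm, Matrix.mulVec, dotProduct, hs, Matrix.of_apply, Finset.sum_mul, Φsum', Φsmul, Φsmul']
    rw [Finset.sum_comm]
    exact Finset.sum_congr rfl fun j _ => Finset.sum_congr rfl fun i _ => by ring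
  have hτι : ∀ x y, τ (hermForm 2 K (q ^ 5) (ι x) (ι y)) = hermForm 10 F q x y := fun x y => by rw [hφι, Φone]
  have hιF : ∀ (t : F) x, ι (t • x) = t • ι x := fun t x => by
    rw [← algebraMap_smul K t x, map_smul, algebraMap_smul]
  let ιF : (Fin 10 → F) ≃ₗ[F] (Fin 2 → K) := ι.restrictScalars F
  -- the normaliser
  have hnorm : ∀ g : GL (Fin 10) F, (∀ c : K, ∃ e : K, ∀ x, act g (c • x) = e • act g x) →
      g ∈ subalgebraNormalizer K := by
    intro g hg
    choose f hf using hg
    have hmat : ∀ c : K, (g : Matrix (Fin 10) (Fin 10) F) * c.1 = (f c).1 * (g : Matrix (Fin 10) (Fin 10) F) := fun c =>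
      Matrix.ext_iff_mulVec.2 fun w => by
        rw [← mulVec_mulVec, ← mulVec_mulVec]
        exact hf c w
    have hinj : Function.Injective f := fun a b e => by
      have h1 := hmat a
      rw [e, ← hmat b] at h1
      exact Subtype.ext ((Units.mul_right_inj g).1 h1)
    intro k
    constructor
    · intro hk
      rw [hmat ⟨k, hk⟩, mul_assoc, Units.mul_inv, mul_one]
      exact (f _).2
    · intro hk
      obtain ⟨c, hc⟩ := Finite.injective_iff_surjective.1 hinj ⟨_, hk⟩
      have h1 := hmat c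
      rw [hc] at h1
      simp only [mul_assoc, Units.inv_mul, mul_one] at h1
      rw [← (Units.mul_right_inj g).1 h1]
      exact c.2
  refine ⟨lt_of_le_of_ne inf_le_right fun heq => ?_, fun M hM hMS => ?_⟩
  · -- a transvection does not normalise
    obtain ⟨v, hv0, hv⟩ := exists_isotropic hF (n := 10) (by norm_num)
    obtain ⟨c, hc0, hc⟩ := exists_trace_zero_ne_zero hF
    have hT : utv v hv c ∈ UDec.SUGL 10 F q := by
      refine UDec.mem_SUGL.mpr ⟨?_, ?_⟩
      · exact (ut_isIso_isotropic hF hv hc : IsIso q (unitaryTransvection 10 q v c))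
      · show (unitaryTransvection 10 q v c).det = 1
        exact utv_det hv c
    have hN := (heq.ge hT).1
    obtain ⟨k, hk⟩ : ∃ k : K, ∀ t : F, k ≠ algebraMap F K t := by
      by_contra hcon
      simp only [not_exists, not_forall, not_not] at hcon
      have : Module.finrank F K ≤ 1 := finrank_le_one (1 : K) fun w => by
        obtain ⟨t, ht⟩ := hcon w
        exact ⟨t, by rw [ht, Algebra.smul_def, mul_one]⟩
      omega
    set g := utv v hv c with hgdef
    obtain ⟨e, he⟩ : ∃ e : K, ∀ x, act g (k • x) = e • act g x :=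
      ⟨⟨_, (hN k.1).1 k.2⟩, fun x => by
        show (g : Matrix (Fin 10) (Fin 10) F) *ᵥ ((k : Matrix (Fin 10) (Fin 10) F) *ᵥ x) = _ *ᵥ ((g : Matrix (Fin 10) (Fin 10) F) *ᵥ x)
        rw [mulVec_mulVec, mulVec_mulVec, mul_assoc, Units.inv_mul, mul_one]⟩
    have hli : LinearIndependent F ![v, σ k • v] := by
      refine linearIndependent_fin2.2 ⟨?_, fun t ht => ?_⟩
      · simp only [Matrix.cons_val_one]
        refine smul_ne_zero (fun e0 => hk 0 ?_) hv0
        rw [← hσσ k, show σ k = 0 from e0, map_zero, map_zero]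
      · simp at ht
        rw [← smul_assoc] at ht
        have h1 : t • σ k = 1 := smul_left_injective K hv0 (by simpa using ht)
        have ht0 : t ≠ 0 := fun e0 => by rw [e0, zero_smul] at h1; exact zero_ne_one h1
        apply hk ((t⁻¹) ^ q)
        rw [← hσa, ← hσσ k]
        congr 1
        rw [← mul_one (algebraMap F K t⁻¹), ← Algebra.smul_def, ← h1, smul_smul, inv_mul_cancel₀ ht0, one_smul]
    obtain ⟨y₁, hy₁⟩ := coords_surjective hF hli ![0, 1]
    have hy₁v : hermForm 10 F q y₁ v = 0 := by simpa [coords_apply] using congrFun hy₁ 0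
    have hy₁k : hermForm 10 F q y₁ (σ k • v) = 1 := by simpa [coords_apply] using congrFun hy₁ 1
    obtain ⟨y, hyv, hyk, hyK⟩ : ∃ y, hermForm 10 F q y v = 0 ∧ hermForm 10 F q (k • y) v = 1 ∧ ∀ a : K, y ≠ a • v := by
      by_cases hin : ∀ a : K, y₁ ≠ a • v
      · exact ⟨y₁, hy₁v, by rw [hσ]; exact hy₁k, hin⟩
      simp only [not_forall, not_not] at hin
      obtain ⟨a₁, ha₁⟩ := hin
      have hr2 := finrank_perp_range hF hli
      rw [Fintype.card_fin] at hr2
      obtain ⟨y₀, hy₀, hy₀K⟩ : ∃ y₀ ∈ perp q (Set.range ![v, σ k • v]), ∀ a : K, y₀ ≠ a • v := by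
        by_contra hcon
        simp only [not_exists, not_and, not_forall, not_not] at hcon
        let L : K →ₗ[F] (Fin 10 → F) := (LinearMap.toSpanSingleton K (Fin 10 → F) v).restrictScalars F
        have hle : perp q (Set.range ![v, σ k • v]) ≤ LinearMap.range L := fun y hy => by
          obtain ⟨a, ha⟩ := hcon y hy
          exact ⟨a, ha.symm⟩
        have h1 := (Submodule.finrank_mono hle).trans (LinearMap.finrank_range_le L)
        omega
      refine ⟨y₁ + y₀, ?_, ?_, fun a ha => hy₀K (a - a₁) ?_⟩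
      · rw [h_add_left, hy₁v, zero_add]
        simpa using mem_perp_range.1 hy₀ 0
      · rw [hσ, h_add_left, hy₁k]
        have := mem_perp_range.1 hy₀ 1
        simp at this
        rw [this, add_zero]
      · rw [sub_smul, ← ha, ← ha₁, add_sub_cancel_left]
    have h1 := he y
    rw [act_utv, act_utv, hyv, hyk, mul_zero, zero_smul, add_zero, mul_one] at h1
    by_cases hek : k = e
    · rw [← hek, add_eq_left, smul_eq_zero] at h1
      exact hv0 (h1.resolve_left hc0)
    · refine hyK ((e - k)⁻¹ * algebraMap F K c) ?_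
      rw [mul_smul, algebraMap_smul, show c • v = (e - k) • y by rw [sub_smul, ← h1, add_sub_cancel_left],
        smul_smul, inv_mul_cancel₀ (sub_ne_zero.2 (Ne.symm hek)), one_smul]
  by_cases hall : ∀ g ∈ M, g ∈ subalgebraNormalizer K
  · exact Or.inl (le_antisymm (fun g hg => ⟨hall g hg, hMS hg⟩) hM)
  right
  simp only [not_forall] at hall
  obtain ⟨g₀, hg₀, hg₀N⟩ := hall
  let Mf : ((Fin 2 → K) →ₗ[F] (Fin 2 → K)) → Prop := fun f => ∃ g ∈ M, ∀ x, f (ι x) = ι (act g x)
  -- matrices of maps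
  have liftL : ∀ T : (Fin 2 → K) →ₗ[K] (Fin 2 → K),
      (∀ x y, hermForm 2 K (q ^ 5) (T x) (T y) = hermForm 2 K (q ^ 5) x y) →
      LinearMap.det (T.restrictScalars F) = 1 → ∃ g ∈ M, ∀ x, T (ι x) = ι (act g x) := by
    intro T hT hdet
    let L : (Fin 10 → F) →ₗ[F] (Fin 10 → F) := ιF.symm.toLinearMap ∘ₗ T.restrictScalars F ∘ₗ ιF.toLinearMap
    have hL : ∀ x, ι (L x) = T (ι x) := fun x => ι.apply_symm_apply _
    have hd : LinearMap.det L = 1 := by
      rw [← hdet]; exact LinearMap.det_conj _ ιF.symm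
    have hdm : (LinearMap.toMatrix' L).det = 1 := by rw [LinearMap.det_toMatrix']; exact hd
    set g := Matrix.GeneralLinearGroup.mkOfDetNeZero (LinearMap.toMatrix' L) (by rw [hdm]; exact one_ne_zero)
    have hgx : ∀ x, act g x = L x := fun x => LinearMap.toMatrix'_mulVec L x
    have hgS : g ∈ UDec.SUGL 10 F q := UDec.mem_SUGL.mpr ⟨fun x y => by
      show hermForm 10 F q (act g x) (act g y) = hermForm 10 F q x y
      rw [hgx, hgx, ← hτι, hL, hL, hT, hτι], hdm⟩
    refine ⟨g, hM ⟨hnorm g fun c => ⟨c, fun x => ?_⟩, hgS⟩, fun x => by rw [hgx, hL]⟩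
    rw [hgx, hgx]
    exact ι.injective (by rw [hL, map_smul, map_smul, map_smul, hL])
  have lift : ∀ N : SU 2 K (q ^ 5), ∃ g ∈ M, ∀ x, suMat N *ᵥ ι x = ι (act g x) := by
    intro N
    let L : SU 2 K (q ^ 5) → ((Fin 10 → F) →ₗ[F] (Fin 10 → F)) := fun N =>
      ιF.symm.toLinearMap ∘ₗ (Matrix.toLin' (suMat N)).restrictScalars F ∘ₗ ιF.toLinearMap
    have hL : ∀ N x, ι (L N x) = suMat N *ᵥ ι x := fun N x => ι.apply_symm_apply _
    have hLmul : ∀ N N', L (N * N') = L N * L N' := fun N N' => LinearMap.ext fun x => ι.injective (by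
      rw [hL, Module.End.mul_apply, hL, hL, suMat_mul, Matrix.mulVec_mulVec])
    have hL1 : L 1 = 1 := LinearMap.ext fun x => ι.injective (by rw [hL, suMat_one, Matrix.one_mulVec]; rfl)
    obtain ⟨p, f, hp, -, hcp, -⟩ := exists_prime_pow hF
    haveI : Fact p.Prime := ⟨hp⟩
    haveI := hcp
    have hdet : ∀ N ∈ transSub 2 (q ^ 5) K, LinearMap.det (L N) = 1 := by
      intro N hN
      induction hN using Subgroup.closure_induction with
      | mem A hA =>
        obtain ⟨v, c, hv, hA⟩ := hA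
        set D := L A - 1 with hD
        have hDx : ∀ x, ι (D x) = (c * hermForm 2 K (q ^ 5) (ι x) v) • v := fun x => by
          rw [hD, LinearMap.sub_apply, Module.End.one_apply, map_sub, hL, hA, ut_mulVec, add_sub_cancel_left]
        have hDD : D * D = 0 := LinearMap.ext fun x => ι.injective (by
          rw [Module.End.mul_apply, hDx, hDx, h_smul_left, hv, mul_zero, mul_zero, zero_smul, LinearMap.zero_apply, map_zero])
        have hpow : ∀ j : ℕ, (1 + D) ^ j = 1 + j • D := fun j => by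
          induction j with
          | zero => simp
          | succ j ih => rw [pow_succ, ih, add_mul, one_mul, mul_add, mul_one, smul_mul_assoc, hDD, smul_zero,
              add_zero, succ_nsmul]; abel
        have h1 : L A ^ p = 1 := by
          rw [show L A = 1 + D by rw [hD]; abel, hpow, ← Nat.cast_smul_eq_nsmul F p D, CharP.cast_eq_zero, zero_smul,
            add_zero]
        have h2 := congrArg LinearMap.det h1
        rw [map_pow, map_one] at h2
        exact frobenius_inj F p (by simpa [frobenius_def] using h2)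
      | one => rw [hL1, map_one]
      | mul a b _ _ ha hb => rw [hLmul, map_mul, ha, hb, one_mul]
      | inv a _ ha =>
        have : L a * L a⁻¹ = 1 := by rw [← hLmul, mul_inv_cancel, hL1]
        have h2 := congrArg LinearMap.det this
        rwa [map_mul, ha, one_mul, map_one] at h2
    have hd : LinearMap.det (L N) = 1 :=
      hdet N (by rw [transSub_eq_top hE 2 (by norm_num) (by omega)]; trivial)
    obtain ⟨g, hg, hgx⟩ := liftL (Matrix.toLin' (suMat N))
      (fun x y => by rw [Matrix.toLin'_apply, Matrix.toLin'_apply, suMat_h])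
      (by rw [← hd]; exact (LinearMap.det_conj _ ιF.symm).symm)
    exact ⟨g, hg, fun x => by rw [← hgx, Matrix.toLin'_apply]⟩
  have hiso : ∀ g ∈ M, ∀ x y, hermForm 10 F q (act g x) (act g y) = hermForm 10 F q x y := fun g hg => (UDec.mem_SUGL.mp (hMS hg)).1
  have d : XS q τ Mf := by
    refine ⟨hF, hE, hr, htr, hnz, ?_, ?_, ?_, ?_, ?_⟩
    · rintro f f' ⟨g, hg, hgf⟩ ⟨g', hg', hgf'⟩
      exact ⟨g * g', M.mul_mem hg hg', fun x => by rw [LinearMap.comp_apply, hgf', hgf, act_mul]⟩
    · rintro f ⟨g, hg, hgf⟩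
      let G' : (Fin 2 → K) →ₗ[F] (Fin 2 → K) :=
        ιF.toLinearMap ∘ₗ Matrix.toLin' ((g⁻¹ : GL (Fin 10) F) : Matrix (Fin 10) (Fin 10) F) ∘ₗ ιF.symm.toLinearMap
      have hG' : ∀ x, G' (ι x) = ι (act g⁻¹ x) := fun x => by
        show ι (Matrix.toLin' _ (ι.symm (ι x))) = _
        rw [ι.symm_apply_apply]; rfl
      refine ⟨G', ⟨g⁻¹, M.inv_mem hg, hG'⟩, LinearMap.ext fun z => ?_, LinearMap.ext fun z => ?_⟩
      · obtain ⟨x, rfl⟩ := ι.surjective z
        rw [LinearMap.comp_apply, hgf, hG', act_inv_act, LinearMap.id_apply]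
      · obtain ⟨x, rfl⟩ := ι.surjective z
        rw [LinearMap.comp_apply, hG', hgf, act_act_inv, LinearMap.id_apply]
    · rintro f ⟨g, hg, hgf⟩ z w
      obtain ⟨x, rfl⟩ := ι.surjective z
      obtain ⟨y, rfl⟩ := ι.surjective w
      rw [hgf, hgf, hτι, hτι]
      exact hiso g hg x y
    · intro N
      obtain ⟨g, hg, hgN⟩ := lift N
      exact ⟨g, hg, fun x => by rw [LinearMap.restrictScalars_apply, Matrix.toLin'_apply, hgN]⟩
    · intro v w t hvw ht
      obtain ⟨T, hd, hT, hTx⟩ := exists_torus hE hvw (fun x => by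
        obtain ⟨hvv, hww, hvw'⟩ := hvw
        exact hyp_decomp hE hvv hww hvw' x) ht
      obtain ⟨g, hg, hgT⟩ := liftL T hT hd
      exact ⟨T.restrictScalars F, ⟨g, hg, fun x => hgT x⟩, hTx⟩
  let G₀ : (Fin 2 → K) →ₗ[F] (Fin 2 → K) :=
    ιF.toLinearMap ∘ₗ Matrix.toLin' (g₀ : Matrix (Fin 10) (Fin 10) F) ∘ₗ ιF.symm.toLinearMap
  have hG₀ : ∀ x, G₀ (ι x) = ι (act g₀ x) := fun x => by
    show ι (Matrix.toLin' _ (ι.symm (ι x))) = _
    rw [ι.symm_apply_apply]; rfl
  have hne : ¬ ∀ c : K, ∃ e : K, ∀ z, G₀ (c • z) = e • G₀ z := fun hall' => hg₀N (hnorm g₀ fun c => by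
    obtain ⟨e, he⟩ := hall' c
    refine ⟨e, fun x => ι.injective ?_⟩
    have := he (ι x)
    rw [← map_smul ι c x, hG₀, hG₀] at this
    rw [this, map_smul])
  refine UDec.eq_of_ctr hF (by norm_num) hMS fun x hx => ⟨hx, fun c hc => ?_⟩
  obtain ⟨f, ⟨g, hg, hgf⟩, hfx⟩ := (d.ctr_all ⟨g₀, hg₀, hG₀⟩ hne (ι x) (by rw [hτι]; exact hx)).2 c hc
  have : g = utv x hx c := gl_ext fun y => ι.injective (by
    rw [← hgf, hfx, act_utv, map_add, hιF, hτι])
  exact this ▸ hg

end H38.SUBundle.Ext
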