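import Cfsg.Agent.H38.SUBundle.Ext.Setting
import Mathlib.FieldTheory.ChevalleyWarning

/-!
An overgroup element breaking some extension line yields one sharing a hyperplane with an extension line.
-/

set_option autoImplicit false
set_option linter.unusedSectionVars false

namespace H38.SUBundle.Ext

open Matrix Cfsg H50

variable {F E : Type*} [Field F] [Fintype F] [Field E] [Fintype E] [Algebra F E] {q : ℕ}

local notation "W2" => (Fin 2 → E)
local notation "φ" => hermForm 2 E (q ^ 5)
local notation "al" => algebraMap F E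

/-- Few quadratic equations have a solution outside a set of solutions of size prime to the characteristic. -/
theorem exists_quad_zero {K V : Type*} [Field K] [Fintype K] [AddCommGroup V] [Module K V] [Fintype V]
    (p : ℕ) [CharP K p] {ι : Type*} [Fintype ι] (B : ι → V →ₗ[K] V →ₗ[K] K)
    (h : 2 * Fintype.card ι < Module.finrank K V) (S : Finset V) (hS : ∀ v ∈ S, ∀ i, B i v v = 0)
    (hp : ¬ p ∣ S.card) : ∃ v ∉ S, ∀ i, B i v v = 0 := by
  classical
  haveI : Module.Finite K V := Module.Finite.of_finite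
  let b := Module.finBasis K V
  let P : ι → MvPolynomial (Fin (Module.finrank K V)) K := fun l =>
    ∑ i, ∑ j, MvPolynomial.C (B l (b i) (b j)) * MvPolynomial.X i * MvPolynomial.X j
  have hdeg : ∀ l, (P l).totalDegree ≤ 2 := fun l => by
    refine MvPolynomial.totalDegree_finsetSum_le fun i _ => MvPolynomial.totalDegree_finsetSum_le fun j _ => ?_
    refine (MvPolynomial.totalDegree_mul _ _).trans ?_
    have := MvPolynomial.totalDegree_mul (MvPolynomial.C (B l (b i) (b j)))
      (MvPolynomial.X i : MvPolynomial (Fin (Module.finrank K V)) K)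
    simp [MvPolynomial.totalDegree_C, MvPolynomial.totalDegree_X] at this ⊢
    omega
  have heval : ∀ l (x : Fin (Module.finrank K V) → K),
      MvPolynomial.eval x (P l) = B l (b.equivFun.symm x) (b.equivFun.symm x) := by
    intro l x
    simp only [P, Module.Basis.equivFun_symm_apply, map_sum, LinearMap.sum_apply, map_smul, LinearMap.smul_apply,
      smul_eq_mul, map_mul, MvPolynomial.eval_C, MvPolynomial.eval_X, Finset.mul_sum]
    rw [Finset.sum_comm]
    exact Finset.sum_congr rfl fun i _ => Finset.sum_congr rfl fun j _ => by ring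
  by_contra hcon
  simp only [not_exists, not_and] at hcon
  have hdvd := char_dvd_card_solutions_of_fintype_sum_lt p (f := P) (by
    rw [Fintype.card_fin]
    refine lt_of_le_of_lt ((Finset.sum_le_sum fun l _ => hdeg l).trans (le_of_eq ?_)) h
    rw [Finset.sum_const, Finset.card_univ, smul_eq_mul, mul_comm])
  apply hp
  have e : Fintype.card {x : Fin (Module.finrank K V) → K // ∀ i, MvPolynomial.eval x (P i) = 0} = S.card := by
    rw [← Fintype.card_coe S]
    refine Fintype.card_congr (Equiv.subtypeEquiv b.equivFun.symm.toEquiv fun x => ?_)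
    constructor
    · intro hx
      by_contra hne
      exact hcon _ hne fun i => by exact (heval i x).symm.trans (hx i)
    · intro hx i
      exact (heval i x).trans (hS _ hx i)
  rwa [e] at hdvd

/-- The scalars fixed by conjugation. -/
def realField (hF : Fintype.card F = q ^ 2) : Subfield F where
  carrier := {x | x ^ q = x}
  mul_mem' {a b} ha hb := by
    show (a * b) ^ q = a * b
    rw [mul_pow, show a ^ q = a from ha, show b ^ q = b from hb]
  one_mem' := one_pow q
  add_mem' {a b} ha hb := by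
    show (a + b) ^ q = a + b
    rw [add_pow_q hF, show a ^ q = a from ha, show b ^ q = b from hb]
  zero_mem' := zero_pow (q_ne_zero hF)
  neg_mem' {a} ha := by
    show (-a) ^ q = -a
    rw [neg_pow_q hF, show a ^ q = a from ha]
  inv_mem' a ha := by
    show a⁻¹ ^ q = a⁻¹
    rw [inv_pow, show a ^ q = a from ha]

theorem card_realField (hF : Fintype.card F = q ^ 2) : Nat.card (realField hF) = q := card_fixed hF

variable {τ : E →ₗ[F] F} {Mf : ((Fin 2 → E) →ₗ[F] (Fin 2 → E)) → Prop} (d : XS q τ Mf)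
include d

theorem XS.finrank_real : Module.finrank (realField d.cardF) F = 2 := by
  classical
  have h := Module.card_eq_pow_finrank (K := realField d.cardF) (V := F)
  rw [← Nat.card_eq_fintype_card (α := realField d.cardF), card_realField, d.cardF] at h
  exact Nat.pow_right_injective (two_le d.cardF) h.symm

theorem XS.finrank_real' (V : Type*) [AddCommGroup V] [Module F V] :
    Module.finrank (realField d.cardF) V = 2 * Module.finrank F V := by
  rw [← d.finrank_real, Module.finrank_mul_finrank]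

/-- Real scalars complementing one to a basis. -/
theorem XS.exists_real_family : ∃ A : Finset E, A.card = 4 ∧ (∀ a ∈ A, a ^ q ^ 5 = a) ∧
    ∀ z : E, τ z = 0 → (∀ a ∈ A, τ (a * z) = 0) → z = 0 := by
  classical
  haveI := d.finite
  let R : Set E := {x | x ^ q ^ 5 = x}
  obtain ⟨ε, hε0, hε⟩ := exists_trace_zero_ne_zero d.cardF
  have hR : Submodule.span F R = ⊤ := by
    rw [eq_top_iff]
    intro e _
    obtain ⟨α, β, k, l, hk, hl, rfl, -⟩ := d.skew_span e
    have hmem : ∀ k : E, k + k ^ q ^ 5 = 0 → k ∈ Submodule.span F R := fun k hk => by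
      have : k = ε⁻¹ • (ε • k) := by rw [smul_smul, inv_mul_cancel₀ hε0, one_smul]
      rw [this]
      refine Submodule.smul_mem _ _ (Submodule.subset_span ?_)
      show (ε • k) ^ q ^ 5 = ε • k
      rw [Algebra.smul_def, mul_pow, d.alg_conj, eq_neg_of_add_eq_zero_right hk,
        eq_neg_of_add_eq_zero_right hε, map_neg, neg_mul_neg]
    exact Submodule.add_mem _ (Submodule.smul_mem _ _ (hmem k hk)) (Submodule.smul_mem _ _ (hmem l hl))
  have h1 : LinearIndepOn F id ({1} : Set E) := LinearIndepOn.singleton one_ne_zero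
  have hsub : ({1} : Set E) ⊆ R := by
    rintro _ rfl; exact one_pow _
  let S := h1.extend hsub
  have hS : LinearIndepOn F id S := h1.linearIndepOn_extend hsub
  have hspan : Submodule.span F S = ⊤ := top_unique (hR ▸ Submodule.span_le.2 (h1.subset_span_extend hsub))
  have hcard : S.toFinset.card = 5 := by
    have := finrank_span_set_eq_card (R := F) hS
    rw [hspan, finrank_top, d.rank] at this
    exact this.symm
  have h1S : (1 : E) ∈ S.toFinset := Set.mem_toFinset.2 (h1.subset_extend hsub rfl)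
  refine ⟨S.toFinset.erase 1, by rw [Finset.card_erase_of_mem h1S, hcard], fun a ha => ?_, fun z hz h => ?_⟩
  · exact h1.extend_subset hsub (Set.mem_toFinset.1 (Finset.mem_of_mem_erase ha))
  refine d.tau_ext fun c => ?_
  rw [mul_zero, map_zero]
  have hc : c ∈ Submodule.span F S := hspan ▸ Submodule.mem_top
  induction hc using Submodule.span_induction with
  | mem x hx =>
    by_cases hx1 : x = 1
    · rw [hx1, one_mul, hz]
    · exact h x (Finset.mem_erase.2 ⟨hx1, Set.mem_toFinset.2 hx⟩)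
  | zero => rw [zero_mul, map_zero]
  | add x y _ _ hx hy => rw [add_mul, map_add, hx, hy, add_zero]
  | smul t x _ hx => rw [Algebra.smul_mul_assoc, map_smul, hx, smul_zero]

/-- The line of an isotropic vector as an `F`-linear map. -/
def ln (v : W2) : E →ₗ[F] W2 := (LinearMap.toSpanSingleton E W2 v).restrictScalars F

omit d in
theorem ln_apply (v : W2) (c : E) : ln (F := F) v c = c • v := rfl

omit d in
theorem ln_injective {v : W2} (hv : v ≠ 0) : Function.Injective (ln (F := F) v) :=
  fun _ _ h => smul_left_injective E hv h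

/-- The scalars whose multiples of `v₀` are mapped into the line of `v`. -/
def into (g : W2 →ₗ[F] W2) (v₀ v : W2) : Submodule F E := (LinearMap.range (ln (F := F) v)).comap (g ∘ₗ ln v₀)

omit d in
theorem mem_into {g : W2 →ₗ[F] W2} {v₀ v : W2} {c : E} :
    c ∈ into g v₀ v ↔ ∃ e : E, e • v = g (c • v₀) := Iff.rfl

/-- Some image of a line meets an extension line. -/
theorem XS.exists_meet {g : W2 →ₗ[F] W2} (hg : Mf g) {v₀ : W2} (hv₀0 : v₀ ≠ 0) (hv₀ : φ v₀ v₀ = 0) :
    ∃ (v : W2) (c : E), v ≠ 0 ∧ φ v v = 0 ∧ c ≠ 0 ∧ g (c • v₀) = v := by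
  classical
  haveI := d.finite
  have hF := d.cardF
  have hE := d.cardE
  obtain ⟨p, f, hp, -, hc, -⟩ := H50.exists_prime_pow hF
  haveI : Fact p.Prime := ⟨hp⟩
  haveI := hc
  haveI : CharP (realField hF) p := inferInstance
  obtain ⟨A, hA, hAr, hAz⟩ := d.exists_real_family
  obtain ⟨ω, hω⟩ := exists_trace_eq hF (one_pow q)
  let z : A → E → E → F := fun a c c' => ω * τ (a.1 * φ (g (c • v₀)) (g (c' • v₀)))
  let B : A → E →ₗ[realField hF] E →ₗ[realField hF] realField hF := fun a =>
    LinearMap.mk₂ (realField hF) (fun c c' => ⟨z a c c' + z a c c' ^ q, trace_fixed hF _⟩)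
      (fun c₁ c₂ c' => Subtype.ext (by
        show z a (c₁ + c₂) c' + z a (c₁ + c₂) c' ^ q = _
        simp only [z, add_smul, map_add, h_add_left, mul_add, add_pow_q hF, mul_pow,
          AddMemClass.coe_add]
        ring))
      (fun t c c' => Subtype.ext (by
        show z a (t • c) c' + z a (t • c) c' ^ q = (t : F) * (z a c c' + z a c c' ^ q)
        have ht : (t : F) ^ q = t := t.2
        simp only [z, Subfield.smul_def, smul_assoc, map_smul, d.hh_smul_left, mul_left_comm a.1,
          d.tau_mul, mul_pow, ht]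
        ring))
      (fun c c₁ c₂ => Subtype.ext (by
        show z a c (c₁ + c₂) + z a c (c₁ + c₂) ^ q = _
        simp only [z, add_smul, map_add, h_add_right hE, mul_add, add_pow_q hF, mul_pow,
          AddMemClass.coe_add]
        ring))
      (fun t c c' => Subtype.ext (by
        show z a c (t • c') + z a c (t • c') ^ q = (t : F) * (z a c c' + z a c c' ^ q)
        have ht : (t : F) ^ q = t := t.2
        simp only [z, Subfield.smul_def, smul_assoc, map_smul, d.hh_smul_right, mul_left_comm a.1,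
          d.tau_mul, mul_pow, ht]
        ring))
  obtain ⟨c, hc0, hcB⟩ := exists_quad_zero p B (by rw [d.finrank_real', d.rank, Fintype.card_coe, hA]; norm_num)
    {0} (fun v hv i => by rw [Finset.mem_singleton.1 hv]; simp)
    (by rw [Finset.card_singleton]; exact hp.not_dvd_one)
  rw [Finset.mem_singleton] at hc0
  refine ⟨g (c • v₀), c, fun h => ?_, hAz _ ?_ (fun a ha => ?_), hc0, rfl⟩
  · obtain ⟨g', -, hgg, -⟩ := d.inv hg
    have := LinearMap.congr_fun hgg (c • v₀)
    rw [LinearMap.comp_apply, h, map_zero, LinearMap.id_apply, eq_comm, smul_eq_zero] at this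
    exact this.elim hc0 hv₀0
  · rw [d.iso hg, h_smul_left, h_smul_right hE, hv₀, mul_zero, mul_zero, map_zero]
  · have h1 : z ⟨a, ha⟩ c c + z ⟨a, ha⟩ c c ^ q = 0 := congrArg Subtype.val (hcB ⟨a, ha⟩)
    have h2 : τ (a * φ (g (c • v₀)) (g (c • v₀))) ^ q = τ (a * φ (g (c • v₀)) (g (c • v₀))) := by
      rw [← d.tau_conj, mul_pow, hAr a ha, h_self_fixed hE]
    simp only [z, mul_pow, h2, ← add_mul, hω, one_mul] at h1
    exact h1

/-- A skew scalar making a plane degenerate but not totally isotropic. -/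
theorem XS.two (X : Submodule F E) (hX : Module.finrank F X = 2) :
    ∃ (k x x' : E), k + k ^ q ^ 5 = 0 ∧ x ∈ X ∧ x ≠ 0 ∧ x' ∈ X ∧
      (∀ y ∈ X, τ (y * (k * x) ^ q ^ 5) = 0) ∧ τ (x' * (k * x') ^ q ^ 5) ≠ 0 := by
  classical
  haveI := d.finite
  have hF := d.cardF
  have hE := d.cardE
  let b := Module.finBasisOfFinrankEq F X hX
  have hb : ∀ i, (b i : E) ∈ X := fun i => (b i).2
  set x₁ : E := (b 0).1 with hx₁
  set x₂ : E := (b 1).1 with hx₂
  have hb0 : ∀ i, (b i : E) ≠ 0 := fun i h => b.ne_zero i (Subtype.ext h)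
  set r := x₂ / x₁ with hr
  have hrF : ∀ t : F, r ≠ al t := fun t h => by
    have e : x₂ = t • x₁ := by
      rw [Algebra.smul_def, ← h, hr, div_mul_cancel₀ _ (hb0 0)]
    have h1 := Fintype.linearIndependent_iff.1 b.linearIndependent ![t, -1] (by
      rw [Fin.sum_univ_two]
      exact Subtype.ext (by simp [e, ← hx₁, ← hx₂])) 1
    simp at h1
  -- scalars spanning the plane with independent norm
  obtain ⟨u, u', hu, hu', hu0, hind, hN⟩ : ∃ u u' : E, u * x₁ ∈ X ∧ u' * x₁ ∈ X ∧ u ≠ 0 ∧
      (∀ y ∈ X, ∃ α β : F, y = α • (u * x₁) + β • (u' * x₁)) ∧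
      u' * u' ^ q ^ 5 ∉ Submodule.span F ({u * u ^ q ^ 5, u' * u ^ q ^ 5, u * u' ^ q ^ 5} : Set E) := by
    have hr1 : r * x₁ = x₂ := div_mul_cancel₀ _ (hb0 0)
    have hall : ∀ y ∈ X, ∃ α β : F, y = α • x₁ + β • x₂ := fun y hy => by
      refine ⟨b.repr ⟨y, hy⟩ 0, b.repr ⟨y, hy⟩ 1, ?_⟩
      conv_lhs => rw [← show ((∑ i, b.repr ⟨y, hy⟩ i • b i : X) : E) = y from
        congrArg Subtype.val (b.sum_repr ⟨y, hy⟩)]
      rw [Fin.sum_univ_two]
      rfl
    by_cases hcase : r * r ^ q ^ 5 ∈ Submodule.span F ({1, r, r ^ q ^ 5} : Set E)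
    swap
    · refine ⟨1, r, by rw [one_mul]; exact hb 0, by rw [hr1]; exact hb 1, one_ne_zero, fun y hy => by
        rw [one_mul, hr1]; exact hall y hy, ?_⟩
      simpa using hcase
    rw [Submodule.mem_span_insert] at hcase
    obtain ⟨a, z, hz, habc⟩ := hcase
    rw [Submodule.mem_span_pair] at hz
    obtain ⟨β, γ, rfl⟩ := hz
    simp only [Algebra.smul_def, mul_one] at habc
    -- shift to a scalar of constant norm
    set R := r ^ q ^ 5 with hR
    have hconj := congrArg (· ^ q ^ 5) habc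
    simp only [mul_pow, add_pow_q hE, d.alg_conj, hR, pow_q_pow_q hE] at hconj
    rw [← hR] at hconj
    have hγ : γ = β ^ q := by
      by_contra hne
      set C := γ - β ^ q with hC
      have hC0 : al C ≠ 0 := by rw [Ne, map_eq_zero]; exact sub_ne_zero.2 hne
      -- `R` is affine in `r`
      have haff : al C * R = al (a ^ q - a) + al (γ ^ q - β) * r := by
        rw [hC, map_sub, map_sub, map_sub]; linear_combination hconj - habc
      have h2 := d.no_quadratic hrF (a := γ ^ q - β) (b := (a ^ q - a) - β * C - γ * (γ ^ q - β))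
        (c := -(a * C + γ * (a ^ q - a))) (by
          simp only [map_sub, map_neg, map_add, map_mul] at haff ⊢
          linear_combination (al C) * habc + (al γ - r) * haff)
      have : γ ^ q = β := sub_eq_zero.1 h2.1
      exact hne (by rw [← this, pow_q_pow_q hF])
    subst hγ
    set s := r - al (β ^ q) with hs
    set n := a + β * β ^ q with hn
    have hsn : s * s ^ q ^ 5 = al n := by
      rw [hs, sub_pow_q hE, d.alg_conj, pow_q_pow_q hF, ← hR, hn, map_add, map_mul]
      linear_combination habc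
    have hsF : ∀ t : F, s ≠ al t := fun t h => hrF (t + β ^ q) (by
      rw [map_add, ← h, hs, sub_add_cancel])
    have hn0 : al n ≠ 0 := by
      rw [← hsn]
      refine mul_ne_zero ?_ (pow_ne_zero _ ?_) <;> exact fun h => hsF 0 (by rw [h, map_zero])
    have hnr : n ^ q = n := (algebraMap F E).injective (by
      rw [← d.alg_conj, ← hsn, mul_pow, pow_q_pow_q hE, mul_comm])
    obtain ⟨t, ht⟩ := H50.exists_norm_eq hF hnr
    rw [pow_succ] at ht
    have hsx : ∀ t : F, (s + al t) * x₁ ∈ X := fun t => by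
      rw [hs, add_mul, sub_mul, hr1, ← Algebra.smul_def, ← Algebra.smul_def]
      exact X.add_mem (X.sub_mem (hb 1) (X.smul_mem _ (hb 0))) (X.smul_mem _ (hb 0))
    refine ⟨s + al t, 1, hsx t, by rw [one_mul]; exact hb 0, fun h => hsF (-t) (by
      rw [map_neg]; linear_combination h), fun y hy => ?_, fun h => ?_⟩
    · obtain ⟨α, β', rfl⟩ := hall y hy
      refine ⟨β', α + β' * β ^ q - β' * t, ?_⟩
      rw [← hr1, hs]
      simp only [Algebra.smul_def, map_add, map_sub, map_mul]
      ring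
    rw [one_mul, one_pow, Submodule.mem_span_insert] at h
    obtain ⟨A₀, z', hz', h1⟩ := h
    rw [Submodule.mem_span_pair] at hz'
    obtain ⟨B, A, rfl⟩ := hz'
    simp only [one_mul, mul_one, Algebra.smul_def, add_pow_q hE, d.alg_conj] at h1
    have htE : al t * al (t ^ q) = al n := by rw [← map_mul, mul_comm, ht]
    have h2 := d.no_quadratic hsF (a := A₀ * t ^ q + A) (b := A₀ * (2 * n) + B * t ^ q + A * t - 1)
      (c := A₀ * t * n + B * n) (by
        simp only [map_sub, map_add, map_mul, map_one, map_ofNat] at h1 ⊢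
        linear_combination (-s) * h1 - (al A₀ * (s + al t) + al B) * hsn - (al A₀ * s) * htE)
    have hA : A = -(A₀ * t ^ q) := by linear_combination h2.1
    have ht0 : n ≠ 0 := fun e => hn0 (by rw [e, map_zero])
    have hB : B = -(A₀ * t) :=
      mul_right_cancel₀ ht0 (show B * n = -(A₀ * t) * n by linear_combination h2.2.2)
    exact one_ne_zero (α := F) (by
      rw [hA, hB] at h2
      linear_combination -h2.2.1 + (-2 * A₀) * ht)
  -- a functional separating the norm
  set x := u * x₁ with hx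
  set x' := u' * x₁ with hx'
  set N₁ := x₁ * x₁ ^ q ^ 5 with hN₁
  have hN₁0 : N₁ ≠ 0 := mul_ne_zero (hb0 0) (pow_ne_zero _ (hb0 0))
  set S := Submodule.span F ({x * x ^ q ^ 5, x' * x ^ q ^ 5, x * x' ^ q ^ 5} : Set E) with hSdef
  have hNS : x' * x' ^ q ^ 5 ∉ S := by
    intro h
    apply hN
    have hmap := Submodule.mem_map_of_mem (f := LinearMap.mulRight F N₁⁻¹) h
    rw [hSdef, Submodule.map_span] at hmap
    have e : ∀ a b : E, (LinearMap.mulRight F N₁⁻¹) (a * x₁ * (b * x₁) ^ q ^ 5) = a * b ^ q ^ 5 := fun a b => by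
      rw [LinearMap.mulRight_apply, hN₁, mul_pow]
      have hx₁0 : x₁ ≠ 0 := hb0 0
      field_simp
    simpa [Set.image_insert_eq, hx, hx', e] using hmap
  obtain ⟨η, hη, hηS⟩ := Submodule.exists_le_ker_of_notMem hNS
  obtain ⟨ω, hω⟩ := exists_trace_eq hF (one_pow q)
  obtain ⟨θ, hθ⟩ := d.dual ((ω / η (x' * x' ^ q ^ 5)) • η)
  obtain ⟨ε, hε0, hε⟩ := exists_trace_zero_ne_zero hF
  have hθS : ∀ s ∈ S, τ (s * θ) = 0 := fun s hs => by
    rw [hθ, LinearMap.smul_apply, LinearMap.mem_ker.1 (hηS hs), smul_zero]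
  set k := al ε * (θ + θ ^ q ^ 5) with hk
  have hτk : ∀ s, τ (s * k) = ε * (τ (s * θ) + τ (s ^ q ^ 5 * θ) ^ q) := fun s => by
    rw [hk, mul_left_comm, d.tau_mul, mul_add, map_add, ← d.tau_conj, mul_pow, pow_q_pow_q hE]
  have hkk : k + k ^ q ^ 5 = 0 := by
    rw [hk, mul_pow, d.alg_conj, trace_fixed hE, ← add_mul, ← map_add, hε, map_zero, zero_mul]
  have hk' := eq_neg_of_add_eq_zero_right hkk
  refine ⟨k, x, x', hkk, hu, mul_ne_zero hu0 (hb0 0), hu', fun y hy => ?_, ?_⟩
  · obtain ⟨α, β, rfl⟩ := hind y hy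
    have m1 : x * x ^ q ^ 5 ∈ S := Submodule.subset_span (by simp)
    have m2 : x' * x ^ q ^ 5 ∈ S := Submodule.subset_span (by simp)
    have m3 : x * x' ^ q ^ 5 ∈ S := Submodule.subset_span (by simp)
    rw [mul_pow k x, hk', add_mul, Algebra.smul_mul_assoc, Algebra.smul_mul_assoc, map_add, map_smul, map_smul,
      neg_mul, mul_neg, mul_neg, map_neg, map_neg,
      show x * (k * x ^ q ^ 5) = (x * x ^ q ^ 5) * k by ring, show x' * (k * x ^ q ^ 5) = (x' * x ^ q ^ 5) * k by ring,
      hτk, hτk, hθS _ m1, hθS _ m2, mul_pow x, pow_q_pow_q hE, mul_pow x', pow_q_pow_q hE,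
      mul_comm (x ^ q ^ 5) x, hθS _ m1, mul_comm (x' ^ q ^ 5) x, hθS _ m3, zero_pow (q_ne_zero hF)]
    simp
  · rw [mul_pow k x', hk', neg_mul, mul_neg, map_neg, neg_ne_zero,
      show x' * (k * x' ^ q ^ 5) = (x' * x' ^ q ^ 5) * k by ring, hτk, mul_pow x' (x' ^ q ^ 5), pow_q_pow_q hE,
      mul_comm (x' ^ q ^ 5) x', hθ, LinearMap.smul_apply, smul_eq_mul,
      div_mul_cancel₀ _ (fun h => hη (by simpa using h)), hω, mul_one]
    exact hε0

/-- A skew scalar sending some element of `X` into `Y`. -/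
theorem XS.pair (X Y : Submodule F E) (hX : X ≠ ⊥) (hY : Y ≠ ⊥)
    (hdim : Module.finrank F X + Module.finrank F Y = 5)
    (hXY : ∀ x ∈ X, ∀ y ∈ Y, τ (x * y ^ q ^ 5) = 0) :
    ∃ k x, k + k ^ q ^ 5 = 0 ∧ k ≠ 0 ∧ x ∈ X ∧ x ≠ 0 ∧ k * x ∈ Y := by
  classical
  haveI := d.finite
  have hF := d.cardF
  have hE := d.cardE
  obtain ⟨p, f, hp, hf, hc, hqp⟩ := H50.exists_prime_pow hF
  haveI : Fact p.Prime := ⟨hp⟩
  haveI := hc
  haveI : CharP (realField hF) p := inferInstance
  obtain ⟨A, hA, hAr, hAz⟩ := d.exists_real_family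
  let z : A → X × Y → X × Y → F := fun a v v' => τ (a.1 * (v.2.1 * v'.1.1 ^ q ^ 5))
  let B : A → X × Y →ₗ[realField hF] X × Y →ₗ[realField hF] realField hF := fun a =>
    LinearMap.mk₂ (realField hF) (fun v v' => ⟨z a v v' + z a v v' ^ q, trace_fixed hF _⟩)
      (fun c₁ c₂ c' => Subtype.ext (by
        show z a (c₁ + c₂) c' + z a (c₁ + c₂) c' ^ q = _
        simp only [z, Prod.snd_add, Submodule.coe_add, add_mul, mul_add, map_add, add_pow_q hF,
          AddMemClass.coe_add]
        ring))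
      (fun t c c' => Subtype.ext (by
        show z a (t • c) c' + z a (t • c) c' ^ q = (t : F) * (z a c c' + z a c c' ^ q)
        have ht : (t : F) ^ q = t := t.2
        simp only [z, Prod.smul_snd, SetLike.val_smul, Subfield.smul_def, Algebra.smul_def, mul_assoc,
          mul_left_comm a.1, d.tau_mul, mul_pow, ht]
        ring))
      (fun c c₁ c₂ => Subtype.ext (by
        show z a c (c₁ + c₂) + z a c (c₁ + c₂) ^ q = _
        simp only [z, Prod.fst_add, Submodule.coe_add, add_pow_q hE, mul_add, map_add, add_pow_q hF,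
          AddMemClass.coe_add]
        ring))
      (fun t c c' => Subtype.ext (by
        show z a c (t • c') + z a c (t • c') ^ q = (t : F) * (z a c c' + z a c c' ^ q)
        have ht : (t : F) ^ q = t := t.2
        simp only [z, Prod.smul_fst, SetLike.val_smul, Subfield.smul_def, Algebra.smul_def, mul_pow,
          d.alg_conj, ht, mul_left_comm _ (al (t : F)), d.tau_mul]
        ring))
  have hBd : ∀ a v, (B a v v).1 = z a v v + z a v v ^ q := fun a v => rfl
  let S : Finset (X × Y) := (Finset.univ : Finset (X × Y)).filter fun v => v.1 = 0 ∨ v.2 = 0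
  have hS0 : ∀ v ∈ S, ∀ a, B a v v = 0 := fun v hv a => by
    refine Subtype.ext ?_
    rw [hBd]
    rcases (Finset.mem_filter.1 hv).2 with h | h <;>
      simp [z, h, zero_pow (q_ne_zero hE), zero_pow (q_ne_zero hF)]
  have hScard : S.card + 1 = Fintype.card X + Fintype.card Y := by
    have h1 : (Finset.univ.filter fun v : X × Y => v.1 = 0) = ({0} : Finset X) ×ˢ Finset.univ := by
      ext v; simp only [Finset.mem_filter, Finset.mem_univ, true_and, Finset.mem_product, Finset.mem_singleton, and_true]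
    have h2 : (Finset.univ.filter fun v : X × Y => v.2 = 0) = Finset.univ ×ˢ ({0} : Finset Y) := by
      ext v; simp only [Finset.mem_filter, Finset.mem_univ, true_and, Finset.mem_product, Finset.mem_singleton, and_true]
    have h3 := Finset.card_union_add_card_inter (Finset.univ.filter fun v : X × Y => v.1 = 0)
      (Finset.univ.filter fun v : X × Y => v.2 = 0)
    rw [← Finset.filter_or] at h3
    rw [show ((Finset.univ.filter fun v : X × Y => v.1 = 0) ∩ Finset.univ.filter fun v : X × Y => v.2 = 0) = {0} by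
      ext v; simp [Prod.ext_iff], h1, h2] at h3
    simp at h3
    simp only [S]
    omega
  have hdvd : ∀ Z : Submodule F E, Z ≠ ⊥ → p ∣ Fintype.card Z := fun Z hZ => by
    rw [Module.card_eq_pow_finrank (K := F), hF, hqp, ← pow_mul, ← pow_mul]
    refine dvd_pow_self p ?_
    have : Module.finrank F Z ≠ 0 := fun h => hZ (Submodule.finrank_eq_zero.1 h)
    positivity
  obtain ⟨v, hv, hvB⟩ := exists_quad_zero p B (by
      rw [Fintype.card_coe, hA, d.finrank_real', Module.finrank_prod, hdim]; norm_num)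
    S hS0 (fun h => hp.not_dvd_one ((Nat.dvd_add_right h).1 (hScard ▸ Nat.dvd_add (hdvd X hX) (hdvd Y hY))))
  simp only [S, Finset.mem_filter, Finset.mem_univ, true_and, not_or] at hv
  have hx0 : v.1.1 ≠ 0 := fun h => hv.1 (Subtype.ext h)
  have hy0 : v.2.1 ≠ 0 := fun h => hv.2 (Subtype.ext h)
  have key : v.2.1 * v.1.1 ^ q ^ 5 + v.1.1 * v.2.1 ^ q ^ 5 = 0 := by
    refine hAz _ ?_ fun a ha => ?_
    · rw [map_add, hXY _ v.1.2 _ v.2.2, add_zero, show v.2.1 * v.1.1 ^ q ^ 5 = (v.1.1 * v.2.1 ^ q ^ 5) ^ q ^ 5 by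
        rw [mul_pow, pow_q_pow_q hE, mul_comm], d.tau_conj, hXY _ v.1.2 _ v.2.2, zero_pow (q_ne_zero hF)]
    · have h1 := congrArg Subtype.val (hvB ⟨a, ha⟩)
      rw [hBd] at h1
      simp only [z, ← d.tau_conj, mul_pow, hAr a ha, pow_q_pow_q hE, ← map_add] at h1
      refine Eq.trans (congrArg τ ?_) h1
      ring
  refine ⟨v.2.1 / v.1.1, v.1.1, ?_, div_ne_zero hy0 hx0, v.1.2, hx0, by
    rw [div_mul_cancel₀ _ hx0]; exact v.2.2⟩
  rw [div_pow, div_add_div _ _ hx0 (pow_ne_zero _ hx0), key, zero_div]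

/-- The transported family and its orthogonality. -/
theorem XS.back {g g' : W2 →ₗ[F] W2} (hg : Mf g) (hgg' : ∀ x, g (g' x) = x) {v₀ v : W2} (hvv : φ v v = 0)
    {y : E} (hy : y ∈ into g v₀ v) (c : E) : τ (φ (g' (c • v)) v₀ * y ^ q ^ 5) = 0 := by
  obtain ⟨e, he⟩ := mem_into.1 hy
  rw [mul_comm, ← h_smul_right d.cardE, ← d.iso hg, hgg', ← he, h_smul_left, h_smul_right d.cardE, hvv,
    mul_zero, mul_zero, map_zero]

/-- Increase the common part. -/
theorem XS.increase {g : W2 →ₗ[F] W2} (hg : Mf g) {v₀ v : W2} (hv₀0 : v₀ ≠ 0) (hv₀ : φ v₀ v₀ = 0)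
    (hv0 : v ≠ 0) (hv : φ v v = 0) (h1 : 1 ≤ Module.finrank F (into g v₀ v))
    (h3 : Module.finrank F (into g v₀ v) ≤ 3) :
    ∃ g₁, Mf g₁ ∧ into g₁ v v ≠ ⊤ ∧
      Module.finrank F (into g v₀ v) < Module.finrank F (into g₁ v v) := by
  haveI := d.finite
  have hE := d.cardE
  obtain ⟨g', hg', hgg, hgg''⟩ := d.inv hg
  have e₁ : ∀ x, g' (g x) = x := fun x => LinearMap.congr_fun hgg x
  have e₂ : ∀ x, g (g' x) = x := fun x => LinearMap.congr_fun hgg'' x
  set Y := into g v₀ v with hYdef
  let π : E →ₗ[F] E := ((H50.hLeft 2 (q ^ 5) v₀).restrictScalars F) ∘ₗ g' ∘ₗ ln v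
  have hπ : ∀ c, π c = φ (g' (c • v)) v₀ := fun c => rfl
  -- the kernel has the dimension of the common part
  have hker : Module.finrank F (LinearMap.ker π) = Module.finrank F Y := by
    have hinj : Function.Injective (g ∘ₗ ln v₀) := fun a b h => ln_injective (F := F) hv₀0 (by
      have := congrArg g' h
      rwa [LinearMap.comp_apply, LinearMap.comp_apply, e₁, e₁] at this)
    have heq : Y.map (g ∘ₗ ln v₀) = (LinearMap.ker π).map (ln v) := by
      ext w
      constructor
      · rintro ⟨c, hc, rfl⟩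
        obtain ⟨e, he⟩ := mem_into.1 hc
        refine ⟨e, ?_, he⟩
        show π e = 0
        rw [hπ, he, e₁, h_smul_left, hv₀, mul_zero]
      · rintro ⟨e, he, rfl⟩
        have he' : φ (g' (e • v)) v₀ = 0 := he
        obtain ⟨f, hf⟩ := exists_hyp_partner hE hv₀0 hv₀
        have hdec : g' (e • v) = φ (g' (e • v)) f • v₀ := by
          conv_lhs => rw [d.decomp hf (g' (e • v)), he', zero_smul, add_zero]
        refine ⟨φ (g' (e • v)) f, mem_into.2 ⟨e, ?_⟩, ?_⟩
        · rw [← hdec, e₂]
        · rw [LinearMap.comp_apply, ln_apply, ← hdec, e₂, ln_apply]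
    rw [(Submodule.equivMapOfInjective _ (ln_injective (F := F) hv0) (LinearMap.ker π)).finrank_eq,
      (Submodule.equivMapOfInjective _ hinj Y).finrank_eq, heq]
  set X := LinearMap.range π with hXdef
  have hdim : Module.finrank F X + Module.finrank F Y = 5 := by
    rw [← hker, hXdef, LinearMap.finrank_range_add_finrank_ker, d.rank]
  have hXY : ∀ x ∈ X, ∀ y ∈ Y, τ (x * y ^ q ^ 5) = 0 := by
    rintro _ ⟨c, rfl⟩ y hy
    rw [hπ]; exact d.back hg e₂ hv hy c
  obtain ⟨k, x, hk, hx, hx0, hkx, hnot⟩ : ∃ k x, k + k ^ q ^ 5 = 0 ∧ x ∈ X ∧ x ≠ 0 ∧ k * x ∈ Y ∧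
      ∃ x' ∈ X, k * x' ∉ Y := by
    by_cases h2 : Module.finrank F X = 2
    · obtain ⟨k, x, x', hk, hx, hx0, hx', hall, hne⟩ := d.two X h2
      refine ⟨k, x, hk, hx, hx0, ?_, x', hx', fun h => hne (hXY x' hx' _ h)⟩
      let b := Module.finBasisOfFinrankEq F X h2
      let Ψ : E →ₗ[F] (Fin 2 → F) :=
        { toFun := fun c i => τ (c * (b i).1 ^ q ^ 5)
          map_add' := fun a b => by funext i; simp [add_mul]
          map_smul' := fun t a => by funext i; simp [Algebra.smul_mul_assoc] }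
      have hY' : Y ≤ LinearMap.ker Ψ := fun y hy => by
        rw [LinearMap.mem_ker]
        funext i
        show τ (y * (b i).1 ^ q ^ 5) = 0
        rw [show y * (b i).1 ^ q ^ 5 = ((b i).1 * y ^ q ^ 5) ^ q ^ 5 by rw [mul_pow, pow_q_pow_q hE, mul_comm],
          d.tau_conj, hXY _ (b i).2 y hy, zero_pow (q_ne_zero d.cardF)]
      have hsurj : LinearMap.range Ψ = ⊤ := by
        by_contra hne'
        obtain ⟨f, hf0, hfle⟩ := Submodule.exists_le_ker_of_lt_top _ (lt_top_iff_ne_top.2 hne')
        have hf : ∀ u : Fin 2 → F, f u = u 0 * f (Pi.single 0 1) + u 1 * f (Pi.single 1 1) := fun u => by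
          conv_lhs => rw [show u = u 0 • (Pi.single 0 1 : Fin 2 → F) + u 1 • Pi.single 1 1 by
            funext i; fin_cases i <;> simp]
          rw [map_add, map_smul, map_smul, smul_eq_mul, smul_eq_mul]
        set α := f (Pi.single 0 1)
        set β := f (Pi.single 1 1)
        have h0 : (b 0).1 ^ q ^ 5 * al α + (b 1).1 ^ q ^ 5 * al β = 0 := d.tau_ext fun c => by
          rw [mul_zero, τ.map_zero, mul_add, map_add, ← mul_assoc, ← mul_assoc, d.tau_mul', d.tau_mul']
          have : f (Ψ c) = 0 := hfle ⟨c, rfl⟩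
          rw [hf] at this
          exact this
        have h1 := congrArg (· ^ q ^ 5) h0
        simp only [add_pow_q hE, mul_pow, d.alg_conj, pow_q_pow_q hE, zero_pow (q_ne_zero hE)] at h1
        have h2 := Fintype.linearIndependent_iff.1 b.linearIndependent ![α ^ q, β ^ q] (by
          rw [Fin.sum_univ_two]
          refine Subtype.ext ?_
          simp [Algebra.smul_def, mul_comm] at h1 ⊢
          linear_combination h1)
        have ha : α = 0 := pow_eq_zero_iff (q_ne_zero d.cardF) |>.1 (h2 0)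
        have hb : β = 0 := pow_eq_zero_iff (q_ne_zero d.cardF) |>.1 (h2 1)
        exact hf0 (LinearMap.ext fun u => by rw [hf, ha, hb, mul_zero, mul_zero, add_zero]; rfl)
      have hr := LinearMap.finrank_range_add_finrank_ker Ψ
      rw [hsurj, finrank_top, Module.finrank_fin_fun, d.rank] at hr
      rw [Submodule.eq_of_le_of_finrank_eq hY' (by omega)]
      rw [LinearMap.mem_ker]
      funext i
      show τ (k * x * (b i).1 ^ q ^ 5) = 0
      rw [show k * x * (b i).1 ^ q ^ 5 = ((b i).1 * (k * x) ^ q ^ 5) ^ q ^ 5 by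
        rw [mul_pow (b i).1, pow_q_pow_q hE, mul_comm], d.tau_conj, hall _ (b i).2,
        zero_pow (q_ne_zero d.cardF)]
    · obtain ⟨k, x, hk, hk0, hx, hx0, hkx⟩ := d.pair X Y
        (fun h => by rw [h, finrank_bot] at hdim; omega) (fun h => by rw [h, finrank_bot] at h1; omega) hdim hXY
      refine ⟨k, x, hk, hx, hx0, hkx, ?_⟩
      by_contra hall
      simp only [not_exists, not_and, not_not] at hall
      have hle : X.map (LinearMap.mulLeft F k) ≤ Y := by
        rintro _ ⟨a, ha, rfl⟩; exact hall a ha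
      have := Submodule.finrank_mono hle
      rw [← (Submodule.equivMapOfInjective (LinearMap.mulLeft F k) (fun a b h => mul_left_cancel₀ hk0 h) X).finrank_eq]
        at this
      omega
  obtain ⟨u, hu, hux⟩ := d.etv hv₀ hk
  refine ⟨g ∘ₗ u ∘ₗ g', d.mul hg (d.mul hu hg'), ?_, ?_⟩
  · obtain ⟨_, ⟨c, rfl⟩, hc⟩ := hnot
    intro htop
    obtain ⟨e, he⟩ := mem_into.1 (htop.ge (Submodule.mem_top : c ∈ ⊤))
    refine hc (mem_into.2 ⟨e - c, ?_⟩)
    rw [sub_smul, he, LinearMap.comp_apply, LinearMap.comp_apply, hux, map_add, e₂, add_sub_cancel_left, hπ]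
  · have hmem : ∀ c, k * π c ∈ Y → c ∈ into (g ∘ₗ u ∘ₗ g') v v := fun c hc => by
      obtain ⟨e, he⟩ := mem_into.1 hc
      refine mem_into.2 ⟨c + e, ?_⟩
      show _ = g (u (g' (c • v)))
      rw [add_smul, he, hux, map_add, e₂]
      rfl
    obtain ⟨c, hcx⟩ := hx
    rw [← hker]
    refine Submodule.finrank_lt_finrank_of_lt (lt_of_le_of_ne (fun a ha => hmem a ?_) fun h => ?_)
    · rw [show π a = 0 from ha, mul_zero]; exact Y.zero_mem
    · have : c ∈ LinearMap.ker π := h ▸ hmem c (by rw [hcx]; exact hkx)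
      exact hx0 (hcx.symm.trans this)

/-- An image of a line sharing exactly a hyperplane with a line. -/
theorem XS.exists_four {g : W2 →ₗ[F] W2} (hg : Mf g) {v₀ : W2} (hv₀0 : v₀ ≠ 0) (hv₀ : φ v₀ v₀ = 0)
    (hline : ¬ ∃ v : W2, ∀ c : E, ∃ e : E, g (c • v₀) = e • v) :
    ∃ g₁ u v, Mf g₁ ∧ u ≠ 0 ∧ φ u u = 0 ∧ v ≠ 0 ∧ φ v v = 0 ∧ Module.finrank F (into g₁ u v) = 4 := by
  haveI := d.finite
  obtain ⟨v, c, hv0, hv, hc0, hcv⟩ := d.exists_meet hg hv₀0 hv₀
  have main : ∀ m, ∀ g u v, Mf g → u ≠ 0 → φ u u = 0 → v ≠ 0 → φ v v = 0 → into g u v ≠ ⊤ →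
      1 ≤ Module.finrank F (into g u v) → 4 ≤ m + Module.finrank F (into g u v) →
      ∃ g₁ u v, Mf g₁ ∧ u ≠ 0 ∧ φ u u = 0 ∧ v ≠ 0 ∧ φ v v = 0 ∧ Module.finrank F (into g₁ u v) = 4 := by
    intro m
    induction m with
    | zero =>
      intro g u v hg hu hu' hv hv' htop h1 h4
      refine ⟨g, u, v, hg, hu, hu', hv, hv', ?_⟩
      have := Submodule.finrank_lt htop
      rw [d.rank] at this
      omega
    | succ m ih =>
      intro g u v hg hu hu' hv hv' htop h1 h4
      have hlt := Submodule.finrank_lt htop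
      rw [d.rank] at hlt
      by_cases h : Module.finrank F (into g u v) = 4
      · exact ⟨g, u, v, hg, hu, hu', hv, hv', h⟩
      obtain ⟨g₁, hg₁, ht, hgt⟩ := d.increase hg hu hu' hv hv' h1 (by omega)
      exact ih g₁ v v hg₁ hv hv' hv hv' ht (by omega) (by omega)
  refine main 4 g v₀ v hg hv₀0 hv₀ hv0 hv (fun h => hline ⟨v, fun e => ?_⟩) ?_ (by omega)
  · obtain ⟨e', he'⟩ := mem_into.1 (h.ge (Submodule.mem_top : e ∈ ⊤))
    exact ⟨e', he'.symm⟩
  · rw [Nat.one_le_iff_ne_zero, Ne, Submodule.finrank_eq_zero]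
    intro h
    have : c ∈ into g v₀ v := mem_into.2 ⟨1, by rw [one_smul, hcv]⟩
    rw [h, Submodule.mem_bot] at this
    exact hc0 this

end H38.SUBundle.Ext
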