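import Cfsg.Agent.H50.Hyperbolic
import Cfsg.Agent.H50.Covering
import Cfsg.Agent.H50.Generation
import Cfsg.Agent.H41.UDec.BlockVec

/-!
Overgroups of a unitary group of dimension two over an extension of degree five: the setting.
-/

set_option autoImplicit false
set_option linter.unusedSectionVars false

namespace H38.SUBundle.Ext

open Matrix Cfsg H50

/-- Coordinates in a hyperbolic pair. -/
theorem hyp_decomp {E : Type*} [Field E] [Fintype E] {q : ℕ} (hE : Fintype.card E = (q ^ 5) ^ 2) {v w : Fin 2 → E}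
    (hvv : hermForm 2 E (q ^ 5) v v = 0) (hww : hermForm 2 E (q ^ 5) w w = 0) (hvw : hermForm 2 E (q ^ 5) v w = 1)
    (x : Fin 2 → E) : x = hermForm 2 E (q ^ 5) x w • v + hermForm 2 E (q ^ 5) x v • w := by
  have hwv : hermForm 2 E (q ^ 5) w v = 1 := by rw [h_symm hE v w, hvw, one_pow]
  have hli : LinearIndependent E ![v, w] := by
    refine Fintype.linearIndependent_iff.2 fun c hc => ?_
    rw [Fin.sum_univ_two] at hc
    simp only [Matrix.cons_val_zero, Matrix.cons_val_one] at hc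
    have h1 := congrArg (fun y => hermForm 2 E (q ^ 5) y v) hc
    have h2 := congrArg (fun y => hermForm 2 E (q ^ 5) y w) hc
    simp [h_add_left, h_smul_left, h_zero_left, hvv, hww, hvw, hwv] at h1 h2
    intro i
    fin_cases i <;> assumption
  have htop := hli.span_eq_top_of_card_eq_finrank (by rw [Fintype.card_fin, Module.finrank_fin_fun])
  obtain ⟨c, rfl⟩ := (Submodule.mem_span_range_iff_exists_fun E).1 (htop.ge (Submodule.mem_top : x ∈ ⊤))
  simp [Fin.sum_univ_two, h_add_left, h_smul_left, hvv, hww, hvw, hwv]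

variable {F E : Type*} [Field F] [Fintype F] [Field E] [Fintype E] [Algebra F E] {q : ℕ}

local notation "W2" => (Fin 2 → E)
local notation "φ" => hermForm 2 E (q ^ 5)
local notation "al" => algebraMap F E

/-- The maps of an overgroup of the normaliser of the extension, preserving the trace of the form. -/
structure XS (q : ℕ) (τ : E →ₗ[F] F) (Mf : ((Fin 2 → E) →ₗ[F] (Fin 2 → E)) → Prop) : Prop where
  cardF : Fintype.card F = q ^ 2
  cardE : Fintype.card E = (q ^ 5) ^ 2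
  rank : Module.finrank F E = 5
  tr : ∀ x, algebraMap F E (τ x) = x + x ^ q ^ 2 + x ^ q ^ 4 + x ^ q ^ 6 + x ^ q ^ 8
  nz : τ ≠ 0
  mul : ∀ {f g}, Mf f → Mf g → Mf (f ∘ₗ g)
  inv : ∀ {f}, Mf f → ∃ g, Mf g ∧ g ∘ₗ f = LinearMap.id ∧ f ∘ₗ g = LinearMap.id
  iso : ∀ {f}, Mf f → ∀ x y, τ (hermForm 2 E (q ^ 5) (f x) (f y)) = τ (hermForm 2 E (q ^ 5) x y)
  lin : ∀ N : SU 2 E (q ^ 5), Mf ((Matrix.toLin' (suMat N)).restrictScalars F)
  tor : ∀ {v w : Fin 2 → E} {t : E}, IsHyp (q ^ 5) v w → Algebra.norm F t = 1 →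
    ∃ f, Mf f ∧ ∀ x, f x = (t * hermForm 2 E (q ^ 5) x w) • v +
      ((t ^ q ^ 5)⁻¹ * hermForm 2 E (q ^ 5) x v) • w

variable {τ : E →ₗ[F] F} {Mf : ((Fin 2 → E) →ₗ[F] (Fin 2 → E)) → Prop} (d : XS q τ Mf)
include d

theorem XS.tau_mul (t : F) (x : E) : τ (al t * x) = t * τ x := by
  rw [← Algebra.smul_def, map_smul, smul_eq_mul]

theorem XS.tau_mul' (x : E) (t : F) : τ (x * al t) = τ x * t := by
  rw [mul_comm, d.tau_mul, mul_comm]

theorem XS.finite : FiniteDimensional F E := Module.finite_of_finrank_eq_succ d.rank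

theorem XS.hadd (a b : E) : (a + b) ^ q = a ^ q + b ^ q := by
  obtain ⟨p, f, hp, -, hc, hqp⟩ := H50.exists_prime_pow d.cardF
  haveI : Fact p.Prime := ⟨hp⟩
  haveI : CharP F p := hc
  haveI : CharP E p := charP_of_injective_algebraMap (algebraMap F E).injective p
  haveI : ExpChar E p := ExpChar.prime hp
  rw [hqp]; exact add_pow_char_pow a b p f

theorem XS.tau_conj (x : E) : τ (x ^ q ^ 5) = τ x ^ q := by
  apply (algebraMap F E).injective
  rw [d.tr, map_pow (algebraMap F E) (τ x), d.tr]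
  have h11 : x ^ (q ^ 11) = x ^ q := by
    rw [show q ^ 11 = (q ^ 5) ^ 2 * q by ring, pow_mul, ← d.cardE, FiniteField.pow_card]
  have h13 : x ^ (q ^ 13) = x ^ q ^ 3 := by
    rw [show q ^ 13 = (q ^ 5) ^ 2 * q ^ 3 by ring, pow_mul, ← d.cardE, FiniteField.pow_card]
  simp only [d.hadd, ← pow_mul, ← pow_add, ← pow_succ]
  norm_num
  rw [h11, h13]
  ring

theorem XS.alg_conj (t : F) : al t ^ q ^ 5 = al (t ^ q) := by
  rw [← map_pow, show q ^ 5 = q ^ 2 * (q ^ 2 * q) by ring, pow_mul, ← d.cardF, FiniteField.pow_card,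
    d.cardF, pow_mul, ← d.cardF, FiniteField.pow_card]

theorem XS.hh_smul_left (t : F) (x y : W2) : φ (t • x) y = al t * φ x y := by
  rw [← algebraMap_smul E t x, h_smul_left]

theorem XS.hh_smul_right (t : F) (x y : W2) : φ x (t • y) = al (t ^ q) * φ x y := by
  rw [← algebraMap_smul E t y, h_smul_right d.cardE, d.alg_conj]

theorem XS.tau_ext {a b : E} (h : ∀ c, τ (c * a) = τ (c * b)) : a = b := by
  by_contra hne
  refine d.nz (LinearMap.ext fun e => ?_)
  have h1 := h (e / (a - b))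
  rw [LinearMap.zero_apply, ← div_mul_cancel₀ e (sub_ne_zero.2 hne), mul_sub, map_sub, h1, sub_self]

theorem XS.dual (η : E →ₗ[F] F) : ∃ θ : E, ∀ c, τ (c * θ) = η c := by
  haveI := d.finite
  let T : E →ₗ[F] Module.Dual F E := (LinearMap.mul F E).compr₂ τ
  have hT : Function.Injective T := fun a b e => d.tau_ext fun c => by
    rw [mul_comm c a, mul_comm c b]; exact LinearMap.congr_fun e c
  obtain ⟨a, ha⟩ := (LinearMap.injective_iff_surjective_of_finrank_eq_finrank
    Subspace.dual_finrank_eq.symm).1 hT η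
  exact ⟨a, fun c => by rw [mul_comm]; exact LinearMap.congr_fun ha c⟩

theorem XS.exists_tau_eq (t : F) : ∃ e, τ e = t := by
  obtain ⟨e, he⟩ : ∃ e, τ e ≠ 0 := by
    by_contra h
    simp only [not_exists, not_not] at h
    exact d.nz (LinearMap.ext h)
  exact ⟨(t / τ e) • e, by rw [map_smul, smul_eq_mul, div_mul_cancel₀ _ he]⟩

/-- Every scalar is an `F`-combination of two skew scalars. -/
theorem XS.skew_span (e : E) : ∃ (α β : F) (k l : E),
    k + k ^ q ^ 5 = 0 ∧ l + l ^ q ^ 5 = 0 ∧ e = α • k + β • l ∧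
      ∀ N : E, N ^ q ^ 5 = N → τ (e * N) = 0 → τ (k * N) = 0 ∧ τ (l * N) = 0 := by
  have hE := d.cardE
  obtain ⟨ω, hω1⟩ := exists_trace_eq d.cardF (one_pow q)
  obtain ⟨ε, hε0, hε⟩ := exists_trace_zero_ne_zero d.cardF
  have hq1 : ∀ x : E, (al ε * (x + x ^ q ^ 5)) + (al ε * (x + x ^ q ^ 5)) ^ q ^ 5 = 0 := fun x => by
    rw [mul_pow, d.alg_conj, trace_fixed hE, ← add_mul, ← map_add, hε, map_zero, zero_mul]
  have hconjN : ∀ N : E, N ^ q ^ 5 = N → τ (e * N) = 0 → τ (e ^ q ^ 5 * N) = 0 := fun N hN h => by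
    rw [show e ^ q ^ 5 * N = (e * N) ^ q ^ 5 by rw [mul_pow, hN], d.tau_conj, h,
      zero_pow (q_ne_zero d.cardF)]
  by_cases hdeg : ω = ω ^ q
  · -- then `2 ω = 1`
    have h2 : ω + ω = 1 := by nth_rewrite 2 [hdeg]; exact hω1
    refine ⟨ω / ε, ω, al ε * (e + e ^ q ^ 5), e - e ^ q ^ 5, hq1 e, ?_, ?_, fun N hN h =>
      ⟨by rw [mul_assoc, d.tau_mul, add_mul, map_add, h, hconjN N hN h, add_zero, mul_zero],
        by rw [sub_mul, map_sub, h, hconjN N hN h, sub_zero]⟩⟩
    · rw [sub_pow_q hE, pow_q_pow_q hE]; ring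
    · rw [Algebra.smul_def, Algebra.smul_def, ← mul_assoc, ← map_mul (algebraMap F E),
        div_mul_cancel₀ _ hε0]
      have h2' : al ω + al ω = 1 := by rw [← map_add, h2, map_one]
      linear_combination (-e) * h2'
  · -- the real coordinates
    set D := ω - ω ^ q with hD
    have hD0 : D ≠ 0 := sub_ne_zero.2 hdeg
    set b := (e - e ^ q ^ 5) / al D with hb
    have hDE : al D ≠ 0 := by rwa [Ne, map_eq_zero]
    have hDc : al D ^ q ^ 5 = -al D := by
      rw [d.alg_conj, ← map_neg]; congr 1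
      rw [hD, sub_pow_q d.cardF, pow_q_pow_q d.cardF]; ring
    have hbr : b ^ q ^ 5 = b := by
      rw [hb, div_pow, sub_pow_q hE, pow_q_pow_q hE, hDc]
      field_simp
      ring
    set a := e - al ω * b with ha
    have har : a ^ q ^ 5 = a := by
      have h1 : b * al D = e - e ^ q ^ 5 := div_mul_cancel₀ _ hDE
      rw [hD, map_sub] at h1
      rw [ha, sub_pow_q hE, mul_pow, d.alg_conj, hbr]
      linear_combination h1
    have hsk : ∀ x : E, x ^ q ^ 5 = x → al ε * x + (al ε * x) ^ q ^ 5 = 0 := fun x hx => by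
      rw [mul_pow, d.alg_conj, hx, ← add_mul, ← map_add, hε, map_zero, zero_mul]
    refine ⟨ε⁻¹, ω / ε, al ε * a, al ε * b, hsk a har, hsk b hbr, ?_, fun N hN h => ?_⟩
    swap
    · have hbN : τ (b * N) = 0 := by
        rw [hb, div_eq_mul_inv, ← map_inv₀ (algebraMap F E), mul_right_comm, d.tau_mul', sub_mul, map_sub,
          h, hconjN N hN h, sub_zero, zero_mul]
      exact ⟨by rw [mul_assoc, d.tau_mul, ha, sub_mul, map_sub, h, mul_assoc, d.tau_mul, hbN, mul_zero,
        sub_zero, mul_zero], by rw [mul_assoc, d.tau_mul, hbN, mul_zero]⟩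
    rw [Algebra.smul_def, Algebra.smul_def, ← mul_assoc, ← mul_assoc, ← map_mul (algebraMap F E),
      ← map_mul (algebraMap F E), div_mul_cancel₀ _ hε0, inv_mul_cancel₀ hε0, map_one, ha]
    ring

/-- A fixed scalar of trace one. -/
theorem XS.exists_fixed_one : ∃ z : E, z ^ q ^ 5 = z ∧ τ z = 1 := by
  obtain ⟨u, hu⟩ := exists_trace_eq d.cardF (one_pow q)
  obtain ⟨e, he⟩ := d.exists_tau_eq u
  refine ⟨e + e ^ q ^ 5, trace_fixed d.cardE e, ?_⟩
  rw [map_add, d.tau_conj, he, hu]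

/-- The trace commutes with squaring in characteristic two. -/
theorem XS.tau_sq (h2 : (2 : F) = 0) (x : E) : τ (x * x) = τ x * τ x := by
  have h2E : (2 : E) = 0 := by rw [← map_ofNat (algebraMap F E) 2, h2, map_zero]
  apply (algebraMap F E).injective
  rw [map_mul (algebraMap F E), d.tr, d.tr]
  simp only [mul_pow]
  linear_combination (-(x * (x ^ q ^ 2 + x ^ q ^ 4 + x ^ q ^ 6 + x ^ q ^ 8) +
    x ^ q ^ 2 * (x ^ q ^ 4 + x ^ q ^ 6 + x ^ q ^ 8) + x ^ q ^ 4 * (x ^ q ^ 6 + x ^ q ^ 8) +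
    x ^ q ^ 6 * x ^ q ^ 8)) * h2E

/-- A scalar killed by all skew scalars vanishes. -/
theorem XS.skew_ext {z : E} (h : ∀ k : E, k + k ^ q ^ 5 = 0 → τ (k * z) = 0) : z = 0 := by
  refine d.tau_ext fun c => ?_
  obtain ⟨α, β, k, l, hk, hl, rfl, -⟩ := d.skew_span c
  rw [mul_zero, map_zero, add_mul, map_add, Algebra.smul_mul_assoc, Algebra.smul_mul_assoc, map_smul,
    map_smul, h k hk, h l hl, smul_zero, smul_zero, add_zero]

/-- An element outside the ground field is no root of a quadratic. -/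
theorem XS.no_quadratic {r : E} (hr : ∀ t : F, r ≠ al t) {a b c : F}
    (h : al a * r ^ 2 + al b * r + al c = 0) : a = 0 ∧ b = 0 ∧ c = 0 := by
  haveI := d.finite
  open Polynomial in
  let P : F[X] := Polynomial.C a * Polynomial.X ^ 2 + Polynomial.C b * Polynomial.X + Polynomial.C c
  have hint : IsIntegral F r := Algebra.IsIntegral.isIntegral r
  have hP : P = 0 := by
    by_contra hP0
    have hdeg := Polynomial.natDegree_le_natDegree (minpoly.degree_le_of_ne_zero F r hP0 (by simp [P, h]))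
    have h2 : P.natDegree ≤ 2 := Polynomial.natDegree_quadratic_le
    have hdvd : (minpoly F r).natDegree ∣ 5 := d.rank ▸ minpoly.degree_dvd hint
    have h1 : (minpoly F r).natDegree = 1 := by
      rcases (Nat.dvd_prime (by norm_num)).1 hdvd with e | e
      · exact e
      · omega
    obtain ⟨t, ht⟩ := minpoly.natDegree_eq_one_iff.1 h1
    exact hr t ht.symm
  have e2 := congrArg (fun p => Polynomial.coeff p 2) hP
  have e1 := congrArg (fun p => Polynomial.coeff p 1) hP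
  have e0 := congrArg (fun p => Polynomial.coeff p 0) hP
  simp [P, Polynomial.coeff_X, Polynomial.coeff_C] at e0 e1 e2
  exact ⟨e2, e1, e0⟩

theorem XS.etv {v : W2} (hv : φ v v = 0) {k : E} (hk : k + k ^ q ^ 5 = 0) :
    ∃ f, Mf f ∧ ∀ x, f x = x + (k * φ x v) • v :=
  ⟨_, d.lin (tv d.cardE v k hv hk), fun x => by
    rw [LinearMap.restrictScalars_apply, Matrix.toLin'_apply, tv_mulVec]⟩

theorem XS.one : Mf LinearMap.id := by
  have := d.lin 1
  rwa [suMat_one, Matrix.toLin'_one] at this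

/-- Coordinates in a hyperbolic pair. -/
theorem XS.decomp {v w : W2} (h : IsHyp (q ^ 5) v w) (x : W2) : x = φ x w • v + φ x v • w :=
  hyp_decomp d.cardE h.1 h.2.1 h.2.2 x

omit d in
/-- All transvections over the ground field centred at `x` are present. -/
def Ctr (q : ℕ) (τ : E →ₗ[F] F) (Mf : ((Fin 2 → E) →ₗ[F] (Fin 2 → E)) → Prop) (x : Fin 2 → E) : Prop :=
  τ (hermForm 2 E (q ^ 5) x x) = 0 ∧ ∀ c : F, c + c ^ q = 0 →
    ∃ f, Mf f ∧ ∀ y, f y = y + (c * τ (hermForm 2 E (q ^ 5) y x)) • x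

theorem XS.ctr_zero : Ctr q τ Mf (0 : W2) :=
  ⟨by rw [h_zero_left, map_zero], fun c _ => ⟨_, d.one, fun y => by rw [smul_zero, add_zero]; rfl⟩⟩

theorem XS.ctr_mv {f : W2 →ₗ[F] W2} (hf : Mf f) {x : W2} (hx : Ctr q τ Mf x) : Ctr q τ Mf (f x) := by
  obtain ⟨h, hm⟩ := hx
  refine ⟨by rw [d.iso hf]; exact h, fun c hc => ?_⟩
  obtain ⟨u, hu, hux⟩ := hm c hc
  obtain ⟨f', hf', -, hff'⟩ := d.inv hf
  have e : ∀ y, f (f' y) = y := fun y => LinearMap.congr_fun hff' y
  refine ⟨f ∘ₗ u ∘ₗ f', d.mul hf (d.mul hu hf'), fun y => ?_⟩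
  rw [LinearMap.comp_apply, LinearMap.comp_apply, hux, map_add, map_smul, e]
  congr 2
  conv_rhs => rw [← e y, d.iso hf]

theorem XS.ctr_smul {x : W2} (hx : Ctr q τ Mf x) (a : F) : Ctr q τ Mf (a • x) := by
  obtain ⟨h, hm⟩ := hx
  refine ⟨by rw [d.hh_smul_left, d.hh_smul_right, d.tau_mul, d.tau_mul, h, mul_zero, mul_zero],
    fun c hc => ?_⟩
  obtain ⟨u, hu, hux⟩ := hm (c * (a * a ^ q)) (by
    rw [mul_pow, mul_pow, pow_q_pow_q d.cardF]; linear_combination (a * a ^ q) * hc)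
  refine ⟨u, hu, fun y => ?_⟩
  rw [hux, d.hh_smul_right, d.tau_mul, smul_smul]
  congr 2; ring

/-- The transvection group of one centre moves the others. -/
theorem XS.ctr_step {x y : W2} (hx : Ctr q τ Mf x) (hy : Ctr q τ Mf y) {c : F} (hc : c + c ^ q = 0) :
    Ctr q τ Mf (y + (c * τ (φ y x)) • x) := by
  obtain ⟨f, hf, hfy⟩ := hx.2 c hc
  have := d.ctr_mv hf hy
  rwa [hfy] at this

end H38.SUBundle.Ext
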