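import Cfsg.Agent.H38.SUBundle.Ext.Meet

/-!
From an image of a line sharing a hyperplane with an extension line to a transvection group.
-/

set_option autoImplicit false
set_option linter.unusedSectionVars false
set_option maxHeartbeats 600000

namespace H38.SUBundle.Ext

open Matrix Cfsg H50

variable {F E : Type*} [Field F] [Fintype F] [Field E] [Fintype E] [Algebra F E] {q : ℕ}

local notation "W2" => (Fin 2 → E)
local notation "φ" => hermForm 2 E (q ^ 5)
local notation "al" => algebraMap F E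

/-- The map translating along the line of `v` by `D` is present. -/
def GU' (q : ℕ) (Mf : ((Fin 2 → E) →ₗ[F] (Fin 2 → E)) → Prop) (v : Fin 2 → E) (D : E → E) : Prop :=
  ∃ f, Mf f ∧ ∀ y, f y = y + D (hermForm 2 E (q ^ 5) y v) • v

variable {τ : E →ₗ[F] F} {Mf : ((Fin 2 → E) →ₗ[F] (Fin 2 → E)) → Prop} (d : XS q τ Mf)
include d

theorem XS.gu_add {v : W2} (hv : φ v v = 0) {D D' : E → E} (h : GU' q Mf v D) (h' : GU' q Mf v D') :
    GU' q Mf v fun b => D b + D' b := by
  obtain ⟨f, hf, hfy⟩ := h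
  obtain ⟨f', hf', hfy'⟩ := h'
  refine ⟨f ∘ₗ f', d.mul hf hf', fun y => ?_⟩
  rw [LinearMap.comp_apply, hfy, hfy', h_add_left, h_smul_left, hv, mul_zero, add_zero, add_smul]
  abel

omit d in
theorem gu_congr {v : W2} {D D' : E → E} (h : GU' q Mf v D) (e : ∀ b, D b = D' b) : GU' q Mf v D' := by
  rwa [← funext e]

theorem XS.gu_zero (v : W2) : GU' q Mf v fun _ => 0 :=
  ⟨_, d.one, fun y => by rw [zero_smul, add_zero]; rfl⟩

theorem XS.gu_sum {ι : Type*} {v : W2} (hv : φ v v = 0) (s : Finset ι) (D : ι → E → E)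
    (h : ∀ i ∈ s, GU' q Mf v (D i)) : GU' q Mf v fun b => ∑ i ∈ s, D i b := by
  classical
  induction s using Finset.induction with
  | empty => simpa using d.gu_zero v
  | insert i s hi ih =>
    refine gu_congr (d.gu_add hv (h i (Finset.mem_insert_self i s))
      (ih fun j hj => h j (Finset.mem_insert_of_mem hj))) fun b => ?_
    rw [Finset.sum_insert hi]

theorem XS.gu_skew {v : W2} (hv : φ v v = 0) {k : E} (hk : k + k ^ q ^ 5 = 0) : GU' q Mf v fun b => k * b :=
  d.etv hv hk

/-- A symmetric sum with vanishing diagonal. -/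
theorem XS.gu_pairs {ι : Type*} [DecidableEq ι] {v : W2} (hv : φ v v = 0) (s : Finset ι) (T : ι → ι → E → E)
    (hd : ∀ i b, T i i b = 0) (h : ∀ i j, GU' q Mf v fun b => T i j b + T j i b) :
    GU' q Mf v fun b => ∑ i ∈ s, ∑ j ∈ s, T i j b := by
  induction s using Finset.induction with
  | empty => simpa using d.gu_zero v
  | insert i s hi ih =>
    refine gu_congr (d.gu_add hv ih (d.gu_sum hv s (fun j b => T i j b + T j i b) fun j _ => h i j)) fun b => ?_
    simp only [Finset.sum_insert hi, hd, Finset.sum_add_distrib]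
    ring

/-- The basic translations. -/
theorem XS.gu_base {v : W2} (hv : φ v v = 0) {u₁ : W2 →ₗ[F] W2} (hu₁ : Mf u₁) {r c : E}
    (hrc : τ (r * c ^ q ^ 5) = 0) (hu : ∀ a : E, u₁ (a • v) = (a + al (τ (a * c ^ q ^ 5)) * r) • v)
    {h : E} (hh : h + h ^ q ^ 5 = 0) :
    GU' q Mf v fun b => al (τ (b * r ^ q ^ 5)) * (h * c) + al (τ (h * b * c ^ q ^ 5)) * r +
      al (τ (h * c * c ^ q ^ 5) * τ (b * r ^ q ^ 5)) * r := by
  have hE := d.cardE
  have hF := d.cardF
  obtain ⟨u', hu', hgg, hgg'⟩ := d.inv hu₁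
  have e₂ : ∀ x, u₁ (u' x) = x := fun x => LinearMap.congr_fun hgg' x
  have hP : ∀ y, φ (u' y) v = φ y v + c * al (τ (φ y v * r ^ q ^ 5)) := by
    intro y
    refine d.tau_ext fun a => ?_
    have h1 : τ (a * φ (u' y) v) = τ (φ y ((a ^ q ^ 5 + al (τ (a ^ q ^ 5 * c ^ q ^ 5)) * r) • v)) := by
      rw [← hu, ← e₂ y, d.iso hu₁, h_smul_right hE, pow_q_pow_q hE, e₂]
    rw [h1, h_smul_right hE, add_pow_q hE, pow_q_pow_q hE, mul_pow, d.alg_conj, ← d.tau_conj, mul_pow,
      pow_q_pow_q hE, pow_q_pow_q hE, add_mul, mul_add, map_add, map_add, mul_assoc (al _),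
      mul_comm (r ^ q ^ 5), d.tau_mul, ← mul_assoc a c, d.tau_mul']
  obtain ⟨t, ht, htx⟩ := d.etv hv hh
  obtain ⟨t', ht', htx'⟩ := d.etv hv (k := -h) (by rw [neg_pow_q hE, ← neg_add, hh, neg_zero])
  refine gu_congr (d.gu_add hv ⟨u₁ ∘ₗ t ∘ₗ u', d.mul hu₁ (d.mul ht hu'), fun y => ?_⟩ ⟨t', ht', htx'⟩)
    (D := fun b => (h * (b + c * al (τ (b * r ^ q ^ 5))) +
      al (τ (h * (b + c * al (τ (b * r ^ q ^ 5))) * c ^ q ^ 5)) * r) + -h * b) fun b => ?_
  · rw [LinearMap.comp_apply, LinearMap.comp_apply, htx, map_add, e₂, hu, hP]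
  · have e : τ (h * (b + c * al (τ (b * r ^ q ^ 5))) * c ^ q ^ 5) =
        τ (h * b * c ^ q ^ 5) + τ (h * c * c ^ q ^ 5) * τ (b * r ^ q ^ 5) := by
      rw [← d.tau_mul' (h * c * c ^ q ^ 5), ← map_add]; congr 1; ring
    rw [e, map_add (algebraMap F E)]
    ring

/-- Real coordinates with respect to a complex scalar of trace one. -/
theorem XS.real_split {R : E → Prop} (hadd : ∀ a b, R a → R b → R (a + b))
    (hsmul : ∀ (t : F) a, t ^ q = t → R a → R (al t * a)) (h0 : R 0) (h2 : (2 : F) = 0) {ε : F}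
    (hε : ε + ε ^ q = 1) {z : E} (hz : z ∈ Submodule.span F {r | R r}) :
    ∃ a b, R a ∧ R b ∧ z = a + al ε * b := by
  have hF := d.cardF
  induction hz using Submodule.span_induction with
  | mem x hx => exact ⟨x, 0, hx, h0, by rw [mul_zero, add_zero]⟩
  | zero => exact ⟨0, 0, h0, h0, by rw [mul_zero, add_zero]⟩
  | add x y _ _ hx hy =>
    obtain ⟨a, b, ha, hb, rfl⟩ := hx
    obtain ⟨a', b', ha', hb', rfl⟩ := hy
    exact ⟨_, _, hadd a a' ha ha', hadd b b' hb hb', by ring⟩
  | smul t x _ hx =>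
    obtain ⟨a, b, ha, hb, rfl⟩ := hx
    set t₁ := t + t ^ q with ht₁
    set t₀ := t - ε * t₁ with ht₀
    set n := ε * ε ^ q with hn
    have r₁ : t₁ ^ q = t₁ := trace_fixed hF t
    have r₀ : t₀ ^ q = t₀ := by
      rw [ht₀, sub_pow_q hF, mul_pow, r₁]
      linear_combination -ht₁ - t₁ * hε + (ε * t₁ - t) * h2
    have rn : n ^ q = n := by rw [hn, mul_pow, pow_q_pow_q hF, mul_comm]
    clear_value t₁ t₀ n
    refine ⟨al t₀ * a + al (t₁ * n) * b, al t₁ * a + al (t₀ + t₁) * b,
      hadd _ _ (hsmul _ _ r₀ ha) (hsmul _ _ (by rw [mul_pow, r₁, rn]) hb),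
      hadd _ _ (hsmul _ _ r₁ ha) (hsmul _ _ (by rw [add_pow_q hF, r₀, r₁]) hb), ?_⟩
    have e1 : al t = al t₀ + al ε * al t₁ := by rw [← map_mul, ← map_add, ht₀, sub_add_cancel]
    have e2 : al ε * al ε = al ε + al n := by
      rw [← map_mul, ← map_add]; congr 1
      rw [hn]; linear_combination ε * hε + (-(ε * ε ^ q)) * h2
    rw [Algebra.smul_def, e1]
    simp only [map_mul, map_add]
    linear_combination (al t₁ * b) * e2

/-- The case of characteristic two. -/
theorem XS.char_two (h2 : (2 : F) = 0) {v : W2} (hv : φ v v = 0) {c : E} (hc0 : c ≠ 0)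
    (hval : ∀ s : F, s + s ^ q = 0 → ∃ h, h + h ^ q ^ 5 = 0 ∧ τ (h * c * c ^ q ^ 5) = s)
    (R : E → Prop) (Radd : ∀ a b, R a → R b → R (a + b)) (Rsmul : ∀ (t : F) a, t ^ q = t → R a → R (al t * a))
    (R0 : R 0) (Rc : ∀ r, R r → τ (r * c ^ q ^ 5) = 0)
    (Rspan : ∀ e, τ (e * c ^ q ^ 5) = 0 → e ∈ Submodule.span F {r | R r})
    (base : ∀ r, R r → ∀ h : E, h + h ^ q ^ 5 = 0 → GU' q Mf v fun b => al (τ (b * r ^ q ^ 5)) * (h * c) +
      al (τ (h * b * c ^ q ^ 5)) * r + al (τ (h * c * c ^ q ^ 5) * τ (b * r ^ q ^ 5)) * r) :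
    ∃ r : E, r ≠ 0 ∧ ∀ s : F, s + s ^ q = 0 → GU' q Mf v fun b => al (s * τ (b * r ^ q ^ 5)) * r := by
  classical
  haveI := d.finite
  have hF := d.cardF
  have hE := d.cardE
  have h2E : (2 : E) = 0 := by rw [← map_ofNat (algebraMap F E) 2, h2, map_zero]
  have sk : ∀ {x : E}, x + x ^ q ^ 5 = 0 → x ^ q ^ 5 = x := fun {x} h => by linear_combination h - x * h2E
  have ks : ∀ {x : E}, x ^ q ^ 5 = x → x + x ^ q ^ 5 = 0 := fun {x} h => by linear_combination h + x * h2E
  have skF : ∀ {x : F}, x + x ^ q = 0 → x ^ q = x := fun {x} h => by linear_combination h - x * h2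
  have ksF : ∀ {x : F}, x ^ q = x → x + x ^ q = 0 := fun {x} h => by linear_combination h + x * h2
  set M := c * c ^ q ^ 5 with hM
  have hMr : M ^ q ^ 5 = M := by rw [hM, mul_pow, pow_q_pow_q hE, mul_comm]
  have hM0 : M ≠ 0 := mul_ne_zero hc0 (pow_ne_zero _ hc0)
  -- symmetrised translations
  have alt : ∀ r r', R r → R r' → ∀ t : F, t ^ q = t → GU' q Mf v fun b =>
      al t * (al (τ (b * r ^ q ^ 5)) * r' + al (τ (b * r' ^ q ^ 5)) * r) := by
    intro r r' hr hr' t ht
    obtain ⟨h, hh, hτ⟩ := hval t (ksF ht)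
    refine gu_congr (d.gu_add hv (d.gu_add hv (base _ (Radd r r' hr hr') h hh) (base r hr h hh))
      (base r' hr' h hh)) fun b => ?_
    rw [hτ, add_pow_q hE, mul_add b, map_add τ]
    simp only [map_mul, map_add]
    linear_combination (al (τ (b * r ^ q ^ 5)) * (h * c) + al (τ (b * r' ^ q ^ 5)) * (h * c) +
      al (τ (h * b * c ^ q ^ 5)) * r + al (τ (h * b * c ^ q ^ 5)) * r' +
      al t * al (τ (b * r ^ q ^ 5)) * r + al t * al (τ (b * r' ^ q ^ 5)) * r') * h2E
  by_cases hin : ∃ k : E, k ^ q ^ 5 = k ∧ τ (k * M) = 0 ∧ ¬ R (k * c)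
  · obtain ⟨k, hk, hkM, hkR⟩ := hin
    obtain ⟨ε, hε⟩ := exists_trace_eq hF (one_pow q)
    obtain ⟨a, b, ha, hb, hz⟩ := d.real_split Radd Rsmul R0 h2 hε
      (Rspan (k * c) (by rw [mul_assoc, ← hM, hkM]))
    refine ⟨b, fun e => hkR (by rw [hz, e, mul_zero, add_zero]; exact ha), fun t ht => ?_⟩
    have htr := skF ht
    have hk' : al t * k + (al t * k) ^ q ^ 5 = 0 := ks (by rw [mul_pow, d.alg_conj, htr, hk])
    refine gu_congr (d.gu_add hv (base b hb _ hk') (alt a b ha hb t htr)) fun y => ?_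
    have e0 : τ (al t * k * c * c ^ q ^ 5) = 0 := by rw [mul_assoc _ c, mul_assoc, ← hM, d.tau_mul, hkM, mul_zero]
    have hzq : k * c ^ q ^ 5 = a ^ q ^ 5 + al (ε ^ q) * b ^ q ^ 5 := by
      have := congrArg (· ^ q ^ 5) hz
      simpa [mul_pow, add_pow_q hE, hk, d.alg_conj] using this
    have e1 : τ (al t * k * y * c ^ q ^ 5) = t * (τ (y * a ^ q ^ 5) + ε ^ q * τ (y * b ^ q ^ 5)) := by
      rw [show al t * k * y * c ^ q ^ 5 = al t * (y * (k * c ^ q ^ 5)) by ring, d.tau_mul, hzq, mul_add,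
        map_add, mul_left_comm, d.tau_mul]
    have hεE : al ε + al (ε ^ q) = 1 := by rw [← map_add, hε, map_one]
    rw [e0, e1, mul_assoc (al t) k c, hz]
    simp only [map_mul, map_add, zero_mul, map_zero]
    linear_combination (al t * al (τ (y * b ^ q ^ 5)) * b) * hεE +
      (al t * al (τ (y * b ^ q ^ 5)) * a + al t * al (τ (y * a ^ q ^ 5)) * b) * h2E
  simp only [not_exists, not_and, not_not] at hin
  -- everything is real
  let K : Set E := {k | k ^ q ^ 5 = k ∧ τ (k * M) = 0}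
  obtain ⟨B, hBK, hBspan, hBli⟩ := exists_linearIndependent F K
  let ψ : E →ₗ[F] F := τ ∘ₗ LinearMap.mulRight F M
  have hKspan : Submodule.span F K = LinearMap.ker ψ := by
    refine le_antisymm (Submodule.span_le.2 fun k hk => hk.2) fun e he => ?_
    obtain ⟨α, β, k, l, hk, hl, rfl, hN⟩ := d.skew_span e
    obtain ⟨h1, h2'⟩ := hN M hMr he
    exact Submodule.add_mem _ (Submodule.smul_mem _ _ (Submodule.subset_span ⟨sk hk, h1⟩))
      (Submodule.smul_mem _ _ (Submodule.subset_span ⟨sk hl, h2'⟩))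
  obtain ⟨k₀, hk₀, hk₀M⟩ := hval 1 (ksF (one_pow q))
  rw [mul_assoc, ← hM] at hk₀M
  have hk₀' := sk hk₀
  have hk₀B : k₀ ∉ Submodule.span F B := by
    rw [hBspan, hKspan]
    intro h
    have : τ (k₀ * M) = 0 := h
    rw [hk₀M] at this
    exact one_ne_zero this
  haveI : Fintype B := Fintype.ofFinite _
  have hBcard : Fintype.card B = 4 := by
    have h1 := finrank_span_eq_card hBli
    rw [Subtype.range_coe, hBspan, hKspan] at h1
    have h3 := LinearMap.finrank_range_add_finrank_ker ψ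
    have h4 : Module.finrank F (LinearMap.range ψ) = 1 := by
      refine le_antisymm (Submodule.finrank_le _ |>.trans (Module.finrank_self F).le) ?_
      rw [Nat.one_le_iff_ne_zero, Ne, Submodule.finrank_eq_zero, LinearMap.range_eq_bot]
      intro e
      have : τ (k₀ * M) = 0 := LinearMap.congr_fun e k₀
      rw [hk₀M] at this
      exact one_ne_zero this
    rw [d.rank, h4] at h3
    have h5 : Module.finrank F (LinearMap.ker ψ) = 4 := by omega
    exact ((Fintype.card_congr (Equiv.refl _)).trans h1.symm).trans h5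
  let kk : Option B → E := fun i => i.elim k₀ Subtype.val
  have hkk : LinearIndependent F kk := by
    have := (linearIndependent_option (v := kk)).2 ⟨hBli, by
      show k₀ ∉ Submodule.span F (Set.range fun i : B => (i : E))
      rwa [Subtype.range_coe]⟩
    exact this
  let bs := basisOfLinearIndependentOfCardEqFinrank hkk (by rw [Fintype.card_option, hBcard, d.rank])
  have hbs : ∀ i, bs i = kk i := fun i => by rw [coe_basisOfLinearIndependentOfCardEqFinrank]
  have hkr : ∀ i, kk i ^ q ^ 5 = kk i := fun i => by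
    rcases i with _ | ⟨i, hi⟩
    · exact hk₀'
    · exact (hBK hi).1
  choose θ hθ using fun i => d.dual (bs.coord i)
  have hexp : ∀ x : E, x = ∑ i, τ (x * θ i) • kk i := fun x => by
    conv_lhs => rw [← bs.sum_repr x]
    exact Finset.sum_congr rfl fun i _ => by rw [hθ, hbs]; rfl
  have hθr : ∀ i, θ i ^ q ^ 5 = θ i := fun i => d.tau_ext fun x => by
    have hx : x ^ q ^ 5 = ∑ j, τ (x * θ j) ^ q • kk j := by
      conv_lhs => rw [hexp x]
      rw [sum_pow_q hE]
      exact Finset.sum_congr rfl fun j _ => by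
        rw [Algebra.smul_def, mul_pow, d.alg_conj, hkr, Algebra.smul_def]
    rw [show x * θ i ^ q ^ 5 = (x ^ q ^ 5 * θ i) ^ q ^ 5 by rw [mul_pow, pow_q_pow_q hE], d.tau_conj, hθ, hx]
    rw [show bs.coord i (∑ j, τ (x * θ j) ^ q • kk j) = τ (x * θ i) ^ q by
      simp only [← hbs, Module.Basis.coord_apply]
      exact congrFun (bs.repr_sum_self fun j => τ (x * θ j) ^ q) i, pow_q_pow_q hF]
  -- the coordinate functionals and their dual family
  set u : Option B → E := fun i => θ i / M with hudef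
  have hur : ∀ i, u i ^ q ^ 5 = u i := fun i => by simp only [hudef, div_pow, hθr, hMr]
  have huM : ∀ i, u i * M = θ i := fun i => div_mul_cancel₀ _ hM0
  have hexp' : ∀ b : E, b = ∑ i, τ (b * (kk i * c) ^ q ^ 5) • (u i * c) := fun b => by
    have key : ∀ x : E, x = ∑ i, τ (x * kk i) • θ i := fun x => d.tau_ext fun y => by
      conv_lhs => rw [hexp y, Finset.sum_mul, map_sum]
      rw [Finset.mul_sum, map_sum]
      exact Finset.sum_congr rfl fun i _ => by
        rw [Algebra.smul_mul_assoc, map_smul, mul_comm (kk i), mul_smul_comm, map_smul, smul_eq_mul,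
          smul_eq_mul, mul_comm]
    have h1 := congrArg (· * (c / M)) (key (b * c ^ q ^ 5))
    simp only [Finset.sum_mul] at h1
    rw [show b * c ^ q ^ 5 * (c / M) = b by rw [hM]; field_simp [hc0]] at h1
    refine h1.trans (Finset.sum_congr rfl fun i _ => ?_)
    rw [Algebra.smul_mul_assoc, mul_pow, hkr, hudef]
    congr 1
    · congr 1; ring
    · field_simp
  obtain ⟨k, hk, hk0, hk1⟩ : ∃ k, k ∈ K ∧ k ≠ 0 ∧ k * M ≠ 1 := by
    obtain ⟨i, j, hij⟩ := Fintype.exists_pair_of_one_lt_card (show 1 < Fintype.card B by omega)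
    by_cases h : (i : E) * M = 1
    · refine ⟨j, hBK j.2, hBli.ne_zero j, fun h' => hij (Subtype.ext ?_)⟩
      exact mul_right_cancel₀ hM0 (h.trans h'.symm)
    · exact ⟨i, hBK i.2, hBli.ne_zero i, h⟩
  have hkcR : R (k * c) := hin k hk.1 hk.2
  set κ := k * c with hκ
  let D : E → E := fun b => al (τ (b * κ ^ q ^ 5)) * (k₀ * c) + al (τ (k₀ * b * c ^ q ^ 5)) * κ +
    al (τ (b * κ ^ q ^ 5)) * κ + k * k * M * b
  have hDG : ∀ t : F, t ^ q = t → GU' q Mf v fun b => al t * D b := by
    intro t ht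
    refine gu_congr (d.gu_add hv (base κ hkcR (al t * k₀) (ks (by rw [mul_pow, d.alg_conj, ht, hk₀'])))
      (d.gu_skew hv (k := al t * (k * k * M)) (ks (by rw [mul_pow, mul_pow, mul_pow, d.alg_conj, ht, hk.1, hMr])))) fun b => ?_
    have e1 : τ (al t * k₀ * c * c ^ q ^ 5) = t := by rw [mul_assoc _ c, mul_assoc, ← hM, d.tau_mul, hk₀M, mul_one]
    have e2 : τ (al t * k₀ * b * c ^ q ^ 5) = t * τ (k₀ * b * c ^ q ^ 5) := by
      rw [show al t * k₀ * b * c ^ q ^ 5 = al t * (k₀ * b * c ^ q ^ 5) by ring, d.tau_mul]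
    rw [e1, e2]
    simp only [D, map_mul]
    ring
  have hDlin : ∀ (s : Finset (Option B)) (a : Option B → F) (y : Option B → E),
      D (∑ i ∈ s, a i • y i) = ∑ i ∈ s, a i • D (y i) := by
    intro s a y
    induction s using Finset.induction with
    | empty => simp [D]
    | insert i s hi ih =>
      rw [Finset.sum_insert hi, Finset.sum_insert hi, ← ih]
      simp only [D, Algebra.smul_def, add_mul, mul_add, map_add, mul_assoc, d.tau_mul, map_mul,
        mul_left_comm k₀ (al (a i))]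
      ring
  let Mx : Option B → Option B → F := fun i j => τ (D (u i * c) * (u j * c) ^ q ^ 5)
  have hMx : ∀ i j, Mx i j = τ (k * θ i) * (τ (k₀ * θ j) + τ (k * θ j)) + τ (k₀ * θ i) * τ (k * θ j) +
      τ (k * k * θ i * θ j) := by
    intro i j
    have e1 : τ (u i * c * κ ^ q ^ 5) = τ (k * θ i) := by
      rw [← huM i, hκ, mul_pow, hk.1, hM]; congr 1; ring
    have e2 : τ (k₀ * (u i * c) * c ^ q ^ 5) = τ (k₀ * θ i) := by
      rw [← huM i, hM]; congr 1; ring
    simp only [Mx, D, e1, e2]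
    rw [mul_pow (u j), hur j, add_mul, add_mul, add_mul, map_add, map_add, map_add, mul_assoc (al _),
      d.tau_mul, mul_assoc (al _), d.tau_mul, mul_assoc (al _), d.tau_mul,
      show k₀ * c * (u j * c ^ q ^ 5) = k₀ * θ j by rw [← huM j, hM]; ring,
      show κ * (u j * c ^ q ^ 5) = k * θ j by rw [← huM j, hM, hκ]; ring,
      show k * k * M * (u i * c) * (u j * c ^ q ^ 5) = k * k * θ i * θ j by rw [← huM i, ← huM j, hM]; ring]
    ring
  have hsymm : ∀ i j, Mx i j = Mx j i := fun i j => by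
    rw [hMx, hMx, show k * k * θ i * θ j = k * k * θ j * θ i by ring]; ring
  have hdiag : ∀ i, Mx i i = 0 := fun i => by
    rw [hMx, show k * k * θ i * θ i = k * θ i * (k * θ i) by ring, d.tau_sq h2]
    linear_combination (τ (k * θ i) * τ (k₀ * θ i) + τ (k * θ i) * τ (k * θ i)) * h2
  have hMreal : ∀ i j, Mx i j ^ q = Mx i j := by
    have hreal : ∀ x : E, x ^ q ^ 5 = x → τ x ^ q = τ x := fun x hx => by rw [← d.tau_conj, hx]
    intro i j
    rw [hMx]
    simp only [add_pow_q hF, mul_pow]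
    rw [hreal (k * θ i) (by rw [mul_pow, hk.1, hθr]), hreal (k * θ j) (by rw [mul_pow, hk.1, hθr]),
      hreal (k₀ * θ i) (by rw [mul_pow, hk₀', hθr]), hreal (k₀ * θ j) (by rw [mul_pow, hk₀', hθr]),
      hreal (k * k * θ i * θ j) (by rw [mul_pow, mul_pow, mul_pow, hk.1, hθr, hθr])]
  let T : Option B → Option B → E → E := fun i j b => al (Mx i j * τ (b * (kk i * c) ^ q ^ 5)) * (kk j * c)
  have hDT : ∀ b, D b = ∑ i, ∑ j, T i j b := fun b => by
    conv_lhs => rw [hexp' b]
    rw [hDlin]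
    refine Finset.sum_congr rfl fun i _ => ?_
    have h1 := congrArg (· * c) (hexp (D (u i * c) / c))
    simp only [Finset.sum_mul] at h1
    rw [div_mul_cancel₀ _ hc0] at h1
    rw [h1, Finset.smul_sum]
    refine Finset.sum_congr rfl fun j _ => ?_
    have e : τ (D (u i * c) / c * θ j) = Mx i j := by
      simp only [Mx]
      rw [← huM j, mul_pow, hur, hM]
      congr 1
      field_simp
    simp only [T]
    rw [e, Algebra.smul_def, Algebra.smul_def, map_mul (algebraMap F E)]
    ring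
  -- the part through the first index
  have hsome : ∀ i : B, R (kk (some i) * c) := fun i => hin _ (hBK i.2).1 (hBK i.2).2
  let ρ := ∑ i : B, al (Mx none (some i)) * (kk (some i) * c)
  have hρR : R ρ := Finset.sum_induction _ R Radd R0 fun i _ => Rsmul _ _ (hMreal _ _) (hsome i)
  have hθ0 : θ none = M := d.tau_ext fun x => by
    conv_lhs => rw [hθ]
    conv_rhs => rw [hexp x, Finset.sum_mul, map_sum, Fintype.sum_option]
    have hz : ∀ i : B, τ ((τ (x * θ (some i)) • kk (some i)) * M) = 0 := fun i => by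
      rw [Algebra.smul_mul_assoc, map_smul, show τ (kk (some i) * M) = 0 from (hBK i.2).2, smul_zero]
    rw [Finset.sum_eq_zero (fun i _ => hz i), add_zero, Algebra.smul_mul_assoc, map_smul,
      show τ (kk none * M) = 1 from hk₀M, smul_eq_mul, mul_one, hθ]
  have hρ0 : ρ ≠ 0 := by
    intro h0
    have h1 := hDT (u none * c)
    have hu0 : u none = 1 := by rw [hudef]; simp only [hθ0]; exact div_self hM0
    rw [hu0, one_mul] at h1
    have hk00 : τ (k₀ * c * c ^ q ^ 5) = 1 := by rw [mul_assoc, ← hM, hk₀M]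
    have hck : τ (c * κ ^ q ^ 5) = 0 := by
      rw [hκ, mul_pow, hk.1, show c * (k * c ^ q ^ 5) = k * M by rw [hM]; ring]; exact hk.2
    have hδ : ∀ i : B, τ (c * (kk (some i) * c) ^ q ^ 5) = 0 := fun i => by
      rw [mul_pow, hkr, show c * (kk (some i) * c ^ q ^ 5) = kk (some i) * M by rw [hM]; ring]
      exact (hBK i.2).2
    have hD : D c = κ * (1 + k * M) := by
      simp only [D, hck, hk00, map_zero, map_one]
      rw [hκ]; ring
    rw [hD, Fintype.sum_option, Finset.sum_eq_zero (s := (Finset.univ : Finset B)) (fun i _ =>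
      Finset.sum_eq_zero fun j _ => by simp only [T, hδ i, mul_zero, map_zero, zero_mul]), add_zero,
      Fintype.sum_option] at h1
    have h00 : T none none c = 0 := by simp only [T, hdiag, zero_mul, map_zero]
    have hn : τ (c * (kk none * c) ^ q ^ 5) = 1 := by
      rw [mul_pow, hkr, show c * (kk none * c ^ q ^ 5) = kk none * M by rw [hM]; ring]; exact hk₀M
    rw [h00, zero_add] at h1
    simp only [T, hn, mul_one] at h1
    rw [show (∑ i : B, al (Mx none (some i)) * (kk (some i) * c)) = 0 from h0] at h1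
    rcases mul_eq_zero.1 h1 with h | h
    · exact mul_ne_zero hk0 hc0 h
    · exact hk1 (by linear_combination h - h2E)
  refine ⟨ρ, hρ0, fun t ht => ?_⟩
  have htr := skF ht
  have inner : GU' q Mf v fun b => ∑ i : B, ∑ j : B, al t * T (some i) (some j) b := by
    refine d.gu_pairs hv Finset.univ (fun (i j : B) b => al t * T (some i) (some j) b)
      (fun i b => by simp only [T, hdiag, zero_mul, map_zero, mul_zero]) fun i j => ?_
    refine gu_congr (alt _ _ (hsome i) (hsome j) (t * Mx (some i) (some j)) (by rw [mul_pow, htr, hMreal]))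
      fun b => ?_
    simp only [T, hsymm (some j) (some i), map_mul]
    ring
  have hb := base ρ hρR (al t * k₀) (ks (by rw [mul_pow, d.alg_conj, htr, hk₀']))
  refine gu_congr (d.gu_add hv (d.gu_add hv (hDG t htr) inner) hb) fun b => ?_
  have e1 : τ (al t * k₀ * c * c ^ q ^ 5) = t := by rw [mul_assoc _ c, mul_assoc, ← hM, d.tau_mul, hk₀M, mul_one]
  have e2 : τ (al t * k₀ * b * c ^ q ^ 5) = t * τ (b * (k₀ * c) ^ q ^ 5) := by
    rw [show al t * k₀ * b * c ^ q ^ 5 = al t * (b * (k₀ * c ^ q ^ 5)) by ring, d.tau_mul, mul_pow, hk₀']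
  have h00 : T none none b = 0 := by simp only [T, hdiag, zero_mul, map_zero]
  have hrow : ∑ i : B, T none (some i) b = al (τ (b * (k₀ * c) ^ q ^ 5)) * ρ := by
    simp only [ρ, Finset.mul_sum, T, map_mul]
    exact Finset.sum_congr rfl fun i _ => by show _ = _; simp only [kk, Option.elim]; ring
  have hρq : ρ ^ q ^ 5 = ∑ i : B, al (Mx none (some i)) * (kk (some i) * c) ^ q ^ 5 := by
    rw [sum_pow_q hE]
    exact Finset.sum_congr rfl fun i _ => by rw [mul_pow, d.alg_conj, hMreal]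
  have hcol : ∑ i : B, T (some i) none b = al (τ (b * ρ ^ q ^ 5)) * (k₀ * c) := by
    rw [hρq, Finset.mul_sum, map_sum, map_sum, Finset.sum_mul]
    refine Finset.sum_congr rfl fun i _ => ?_
    simp only [T]
    rw [hsymm (some i) none, mul_left_comm b (al _), d.tau_mul]
    rfl
  have hsplit : D b = al (τ (b * (k₀ * c) ^ q ^ 5)) * ρ + (al (τ (b * ρ ^ q ^ 5)) * (k₀ * c) +
      ∑ i : B, ∑ j : B, T (some i) (some j) b) := by
    rw [hDT, Fintype.sum_option, Fintype.sum_option, h00, zero_add, hrow, ← hcol, ← Finset.sum_add_distrib]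
    exact congrArg _ (Finset.sum_congr rfl fun i _ => Fintype.sum_option _)
  rw [e1, e2, hsplit]
  simp only [map_mul, ← Finset.mul_sum]
  linear_combination (al t * (al (τ (b * (k₀ * c) ^ q ^ 5)) * ρ + al (τ (b * ρ ^ q ^ 5)) * (k₀ * c) +
    ∑ i : B, ∑ j : B, T (some i) (some j) b)) * h2E

/-- A transvection group exists. -/
theorem XS.exists_ctr {g : W2 →ₗ[F] W2} (hg : Mf g) {u v : W2} (hu0 : u ≠ 0) (hu : φ u u = 0)
    (hv0 : v ≠ 0) (hv : φ v v = 0) (h4 : Module.finrank F (into g u v) = 4) :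
    ∃ x : W2, x ≠ 0 ∧ φ x x = 0 ∧ Ctr q τ Mf x := by
  classical
  haveI := d.finite
  have hF := d.cardF
  have hE := d.cardE
  obtain ⟨g', hg', hgg, hgg''⟩ := d.inv hg
  have e₁ : ∀ x, g' (g x) = x := fun x => LinearMap.congr_fun hgg x
  have e₂ : ∀ x, g (g' x) = x := fun x => LinearMap.congr_fun hgg'' x
  let π : E →ₗ[F] E := ((H50.hLeft 2 (q ^ 5) u).restrictScalars F) ∘ₗ g' ∘ₗ ln v
  have hπ : ∀ c, π c = φ (g' (c • v)) u := fun c => rfl
  set Y := into g u v with hY
  have hπY : ∀ c, ∀ y ∈ Y, τ (π c * y ^ q ^ 5) = 0 := fun c y hy => d.back hg e₂ hv hy c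
  -- a value of the coordinate
  obtain ⟨c₁, hc₁⟩ : ∃ c, π c ≠ 0 := by
    by_contra h
    simp only [not_exists, not_not] at h
    obtain ⟨f, hf⟩ := exists_hyp_partner hE hu0 hu
    have hall : ∀ a, a ∈ Y := fun a => by
      let L : E →ₗ[F] E := ((H50.hLeft 2 (q ^ 5) f).restrictScalars F) ∘ₗ g' ∘ₗ ln v
      have hL : ∀ c, g' (c • v) = L c • u := fun c => by
        conv_lhs => rw [d.decomp hf (g' (c • v)), ← hπ c, h c, zero_smul, add_zero]
        rfl
      have hinj : Function.Injective L := fun a b e => ln_injective (F := F) hv0 (by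
        have := congrArg (fun x => g (x • u)) e
        simpa only [← hL, e₂, ln_apply] using this)
      obtain ⟨c, rfl⟩ := Finite.injective_iff_surjective.1 hinj a
      exact mem_into.2 ⟨c, by rw [← hL, e₂]⟩
    rw [show Y = ⊤ from eq_top_iff.2 fun a _ => hall a, finrank_top, d.rank] at h4
    omega
  set x := π c₁ with hx
  have hx0 : x ≠ 0 := hc₁
  let ψ : E →ₗ[F] F := τ ∘ₗ LinearMap.mulRight F (x ^ q ^ 5)
  have hψ : ∀ e, ψ e = τ (e * x ^ q ^ 5) := fun e => rfl
  have hYψ : Y = LinearMap.ker ψ := by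
    refine Submodule.eq_of_le_of_finrank_le (fun y hy => ?_) ?_
    · rw [LinearMap.mem_ker, hψ, show y * x ^ q ^ 5 = (x * y ^ q ^ 5) ^ q ^ 5 by
        rw [mul_pow, pow_q_pow_q hE, mul_comm], d.tau_conj, hπY c₁ y hy, zero_pow (q_ne_zero hF)]
    · have h1 := LinearMap.finrank_range_add_finrank_ker ψ
      have h2 : Module.finrank F (LinearMap.range ψ) ≠ 0 := fun h => by
        rw [Submodule.finrank_eq_zero] at h
        apply pow_ne_zero (q ^ 5) hx0
        exact d.tau_ext fun e => by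
          have := LinearMap.congr_fun (LinearMap.range_eq_bot.1 h) e
          rw [mul_zero, map_zero]
          exact this
      rw [d.rank] at h1
      omega
  -- all values are multiples of it
  have hmult : ∀ c, ∃ t : F, π c = al t * x := by
    have hker : 4 ≤ Module.finrank F (LinearMap.ker π) := by
      have hinj : Function.Injective (g ∘ₗ ln u) := fun a b h => ln_injective (F := F) hu0 (by
        have := congrArg g' h
        rwa [LinearMap.comp_apply, LinearMap.comp_apply, e₁, e₁] at this)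
      have hle : Y.map (g ∘ₗ ln u) ≤ (LinearMap.ker π).map (ln v) := by
        rintro _ ⟨c, hc, rfl⟩
        obtain ⟨e, he⟩ := mem_into.1 hc
        refine ⟨e, ?_, he⟩
        show π e = 0
        rw [hπ, he, e₁, h_smul_left, hu, mul_zero]
      have := Submodule.finrank_mono hle
      rw [← (Submodule.equivMapOfInjective _ (ln_injective (F := F) hv0) (LinearMap.ker π)).finrank_eq,
        ← (Submodule.equivMapOfInjective _ hinj Y).finrank_eq, h4] at this
      exact this
    intro c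
    have h1 := LinearMap.finrank_range_add_finrank_ker π
    rw [d.rank] at h1
    have hxne : (⟨x, c₁, rfl⟩ : LinearMap.range π) ≠ 0 := fun e => hx0 (congrArg Subtype.val e)
    have h1' : Module.finrank F (LinearMap.range π) = 1 := by
      have : Module.finrank F (LinearMap.range π) ≠ 0 := fun h => by
        rw [Submodule.finrank_eq_zero, LinearMap.range_eq_bot] at h
        exact hx0 (LinearMap.congr_fun h c₁)
      omega
    obtain ⟨t, ht⟩ := exists_smul_eq_of_finrank_eq_one h1' hxne ⟨π c, c, rfl⟩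
    exact ⟨t, by rw [← Algebra.smul_def]; exact (congrArg Subtype.val ht).symm⟩
  choose lam hlam using hmult
  have inj := (algebraMap F E).injective
  let lamL : E →ₗ[F] F :=
    { toFun := lam
      map_add' := fun a b => inj (mul_right_cancel₀ hx0 (by
        rw [map_add, add_mul, ← hlam, ← hlam, ← hlam, map_add]))
      map_smul' := fun t a => inj (mul_right_cancel₀ hx0 (by
        rw [RingHom.id_apply, smul_eq_mul, map_mul, mul_assoc, ← hlam, ← hlam, map_smul, Algebra.smul_def])) }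
  obtain ⟨θ, hθ⟩ := d.dual lamL
  set c := θ ^ q ^ 5 with hc
  have hπc : ∀ a, π a = al (τ (a * c ^ q ^ 5)) * x := fun a => by
    rw [hc, pow_q_pow_q hE, hθ]; exact hlam a
  have hc0 : c ≠ 0 := fun h => hx0 (by rw [hx, hπc, h, zero_pow (q_ne_zero hE), mul_zero, map_zero, map_zero, zero_mul])
  set N := x * x ^ q ^ 5 with hN
  have hNr : N ^ q ^ 5 = N := by rw [hN, mul_pow, pow_q_pow_q hE, mul_comm]
  -- the centres of the induced transvections
  let R : E → Prop := fun r => ∃ k, k + k ^ q ^ 5 = 0 ∧ τ (k * N) = 0 ∧ g ((k * x) • u) = r • v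
  have Rc : ∀ r, R r → τ (r * c ^ q ^ 5) = 0 := by
    rintro r ⟨k, -, -, hr⟩
    have : π r = 0 := by rw [hπ, ← hr, e₁, h_smul_left, hu, mul_zero]
    rw [hπc, mul_eq_zero, map_eq_zero] at this
    exact this.resolve_right hx0
  have Radd : ∀ a b, R a → R b → R (a + b) := by
    rintro a b ⟨k, hk, hk', hka⟩ ⟨l, hl, hl', hlb⟩
    refine ⟨k + l, by rw [add_pow_q hE]; linear_combination hk + hl, by rw [add_mul, map_add, hk', hl', add_zero], ?_⟩
    rw [add_mul, add_smul, map_add, hka, hlb, add_smul]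
  have Rsmul : ∀ (t : F) a, t ^ q = t → R a → R (al t * a) := by
    rintro t a ht ⟨k, hk, hk', hka⟩
    refine ⟨al t * k, by rw [mul_pow, d.alg_conj, ht, ← mul_add, hk, mul_zero],
      by rw [mul_assoc, d.tau_mul, hk', mul_zero], ?_⟩
    rw [mul_assoc, mul_smul, algebraMap_smul, map_smul, hka, mul_smul, algebraMap_smul]
  have R0 : R 0 := ⟨0, by rw [zero_pow (q_ne_zero hE), add_zero], by rw [zero_mul, map_zero],
    by rw [zero_mul, zero_smul, map_zero, zero_smul]⟩
  have Rneg : ∀ r, R r → R (-r) := fun r hr => by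
    have := Rsmul (-1) r (by rw [neg_pow_q hF, one_pow]) hr
    rwa [map_neg, map_one, neg_one_mul] at this
  have Rinto : ∀ k, τ (k * N) = 0 → ∃ e, g ((k * x) • u) = e • v := fun k hk => by
    have : k * x ∈ Y := by rw [hYψ, LinearMap.mem_ker, hψ, mul_assoc, ← hN, hk]
    obtain ⟨e, he⟩ := mem_into.1 this
    exact ⟨e, he.symm⟩
  have Rspan : ∀ e, τ (e * c ^ q ^ 5) = 0 → e ∈ Submodule.span F {r | R r} := by
    intro e he
    have h0 : π e = 0 := by rw [hπc, he, map_zero, zero_mul]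
    obtain ⟨f, hf⟩ := exists_hyp_partner hE hu0 hu
    set a := φ (g' (e • v)) f with ha
    have hga : g' (e • v) = a • u := by
      conv_lhs => rw [d.decomp hf (g' (e • v)), ← hπ e, h0, zero_smul, add_zero]
    have haY : a ∈ Y := mem_into.2 ⟨e, by rw [← hga, e₂]⟩
    rw [hYψ, LinearMap.mem_ker, hψ] at haY
    obtain ⟨α, β, k, l, hk, hl, hz, hN'⟩ := d.skew_span (a / x)
    obtain ⟨hkN, hlN⟩ := hN' N hNr (by
      rw [hN, ← mul_assoc, div_mul_cancel₀ _ hx0]; exact haY)
    obtain ⟨r, hr⟩ := Rinto k hkN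
    obtain ⟨r', hr'⟩ := Rinto l hlN
    have : e = α • r + β • r' := smul_left_injective E hv0 (by
      show e • v = (α • r + β • r') • v
      have ha' : a = α • (k * x) + β • (l * x) := by
        rw [← Algebra.smul_mul_assoc, ← Algebra.smul_mul_assoc, ← add_mul, ← hz, div_mul_cancel₀ _ hx0]
      rw [← e₂ (e • v), hga, ha']
      simp only [add_smul, smul_assoc, map_add, LinearMap.map_smul, hr, hr'])
    rw [this]
    exact Submodule.add_mem _ (Submodule.smul_mem _ _ (Submodule.subset_span ⟨k, hk, hkN, hr⟩))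
      (Submodule.smul_mem _ _ (Submodule.subset_span ⟨l, hl, hlN, hr'⟩))
  have base : ∀ r, R r → ∀ h : E, h + h ^ q ^ 5 = 0 → GU' q Mf v fun b => al (τ (b * r ^ q ^ 5)) * (h * c) +
      al (τ (h * b * c ^ q ^ 5)) * r + al (τ (h * c * c ^ q ^ 5) * τ (b * r ^ q ^ 5)) * r := by
    intro r hr h hh
    have hrc := Rc r hr
    obtain ⟨k, hk, hk', hkr⟩ := hr
    obtain ⟨t, ht, htx⟩ := d.etv hu hk
    refine d.gu_base hv (d.mul hg (d.mul ht hg')) hrc (fun a => ?_) hh
    rw [LinearMap.comp_apply, LinearMap.comp_apply, htx, map_add, e₂, ← hπ, hπc, mul_left_comm, mul_smul,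
      algebraMap_smul, map_smul, hkr, add_smul, mul_smul, algebraMap_smul]
  obtain ⟨r, hr0, hrank⟩ : ∃ r : E, r ≠ 0 ∧
      ∀ s : F, s + s ^ q = 0 → GU' q Mf v fun b => al (s * τ (b * r ^ q ^ 5)) * r := by
    have hM : c * c ^ q ^ 5 ≠ 0 := mul_ne_zero hc0 (pow_ne_zero _ hc0)
    have hMr : (c * c ^ q ^ 5) ^ q ^ 5 = c * c ^ q ^ 5 := by rw [mul_pow, pow_q_pow_q hE, mul_comm]
    obtain ⟨z, hz, hz1⟩ := d.exists_fixed_one
    have hval : ∀ s : F, s + s ^ q = 0 → ∃ h, h + h ^ q ^ 5 = 0 ∧ τ (h * c * c ^ q ^ 5) = s := fun s hs => by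
      refine ⟨al s * (z / (c * c ^ q ^ 5)), by
        rw [mul_pow, d.alg_conj, div_pow, hz, hMr, ← add_mul, ← map_add, hs, map_zero, zero_mul], ?_⟩
      rw [mul_assoc _ c, mul_assoc (al s), div_mul_cancel₀ _ hM, d.tau_mul, hz1, mul_one]
    obtain ⟨r, hr, hr0⟩ : ∃ r, R r ∧ r ≠ 0 := by
      by_contra hcon
      simp only [not_exists, not_and, not_not] at hcon
      have hbot : Submodule.span F {r | R r} = ⊥ := Submodule.span_eq_bot.2 hcon
      let ψ' : E →ₗ[F] F := τ ∘ₗ LinearMap.mulRight F (c ^ q ^ 5)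
      obtain ⟨e, he, he0⟩ := Submodule.exists_mem_ne_zero_of_ne_bot
        (LinearMap.ker_ne_bot_of_finrank_lt (f := ψ') (by rw [d.rank, Module.finrank_self]; norm_num))
      have := Rspan e he
      rw [hbot, Submodule.mem_bot] at this
      exact he0 this
    by_cases h2 : (2 : F) = 0
    · -- characteristic two
      exact d.char_two h2 hv hc0 hval R Radd Rsmul R0 Rc Rspan base
    · refine ⟨r, hr0, fun s hs => ?_⟩
      obtain ⟨h, hh, hτh⟩ := hval (s / 2) (by
        have h2q : (2 : F) ^ q = 2 := by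
          rw [← one_add_one_eq_two, add_pow_q hF, one_pow]
        rw [div_pow, h2q, ← add_div, hs, zero_div])
      refine gu_congr (d.gu_add hv (base r hr h hh) (base (-r) (Rneg r hr) h hh)) fun b => ?_
      rw [neg_pow_q hE, mul_neg, map_neg, hτh]
      simp only [map_mul, map_neg, map_div₀, map_ofNat]
      have : (2 : E) ≠ 0 := by rw [← map_ofNat (algebraMap F E) 2, Ne, map_eq_zero]; exact h2
      field_simp
      ring
  refine ⟨r • v, smul_ne_zero hr0 hv0, by rw [h_smul_left, h_smul_right hE, hv, mul_zero, mul_zero],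
    by rw [h_smul_left, h_smul_right hE, hv, mul_zero, mul_zero, map_zero], fun s hs => ?_⟩
  obtain ⟨f, hf, hfy⟩ := hrank s hs
  refine ⟨f, hf, fun y => ?_⟩
  rw [hfy, h_smul_right hE, mul_comm (r ^ q ^ 5), mul_smul, algebraMap_smul]

end H38.SUBundle.Ext
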